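import Groth.Agent.H22Alg.PB.Transfer
import Groth.Agent.H22Alg.KBaseChangeCl
import Groth.Agent.S3572
import Groth.Agent.S3573

/-! # The full vanishing pattern for `O(d)` on projective bundles. -/

set_option autoImplicit false
set_option linter.style.haveILetI false

universe u

open CategoryTheory CategoryTheory.Limits AlgebraicGeometry Opposite TopologicalSpace
open Groth.Agent.H11Tilde Groth.Agent.H11Ample Groth.Agent.H10Coh.Stab
attribute [local instance] HasDerivedCategory.standard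
attribute [local instance 10000] Groth.Agent.H10Coh.hasSheafifyAb Groth.Agent.H10Coh.hasWeakSheafifyAb Groth.Agent.H10Coh.hasExtAb Groth.Agent.H10Coh.enoughInjAb
attribute [local instance] Groth.Agent.H10Coh.enoughInjMod

noncomputable section

namespace Groth.Agent.H22Alg.PB

/-- Projective space over a ring is the projective space over its spectrum. -/
theorem exists_affine_iso (n : ℕ) (A : Type u) [CommRing A] :
    ∃ (a : CohB1.ProjSpace n A ⟶ KRR.PY n (Spec (CommRingCat.of A))), IsIso a ∧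
      a ≫ KRR.pr n (Spec (CommRingCat.of A)) = CohB1.ProjSpace.toSpec n A ∧
      Nonempty ((Scheme.Modules.pullback a).obj (Twist.twistOver n (Spec (CommRingCat.of A)) 1) ≅
        Twist.twistProjSpace n A 1) := by
  let c : Fin (n + 1) → Γ(Twist.twistProjSpace n A 1, ⊤) := fun i => ProjUP.coord n A i
  have hc : ∀ x, ∃ i, x ∈ gen (Twist.twistProjSpace n A 1) (c i) := fun x => by
    obtain ⟨i, hi⟩ := exists_mem_basicOpen_X (n := n) (R := A) x
    exact ⟨i, by show x ∈ gen _ (ProjUP.coord n A i); rw [gen_coord]; exact hi⟩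
  obtain ⟨a, ha, ham⟩ := exists_pn (CohB1.ProjSpace.toSpec n A : CohB1.ProjSpace n A ⟶ Spec (CommRingCat.of A))
    (H11Ample.isInvertible_twist (n := n) (R := A)) c hc
  obtain ⟨hS, σ, hσ⟩ := ham
  let Y := KRR.PY n (Spec (CommRingCat.of A))
  let L := Twist.twistOver n (Spec (CommRingCat.of A)) 1
  have hL : PicF.IsInvertible L := RegSheaf.isInvertible_twistOver 1
  have hgen : ProjUP.GeneratedBy L (crd n (Spec (CommRingCat.of A))) := fun x => by
    obtain ⟨i, hi⟩ := crd_cover n _ x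
    refine eq_top_iff.2 fun m _ => ?_
    obtain ⟨d, hd⟩ := ((mem_gen_iff hL _ x).1 hi).2 m
    rw [← hd]
    exact Submodule.smul_mem _ d (Submodule.subset_span ⟨i, rfl⟩)
  obtain ⟨b, hb, τ, hτ⟩ := S3572.result n (KRR.pr n (Spec (CommRingCat.of A))) L hL _ hgen
  have hm : Mt (a ≫ b) (S := ⊤) (fun i => ProjUP.coord n A i) _ c := by
    have h0 : Mt b (S := ⊤) (fun i => ProjUP.coord n A i) L (crd n (Spec (CommRingCat.of A))) :=
      ⟨le_rfl, τ, fun i => by rw [pt_top]; exact hτ i⟩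
    exact (h0.comp a).trans σ fun i => by rw [← pt_top]; exact hσ i
  have hab : a ≫ b = 𝟙 _ := by
    obtain ⟨_, e, he⟩ := hm
    refine S3573.result n _ _ (by rw [Category.assoc, hb, ha, Category.id_comp])
      (e ≪≫ ((Scheme.Modules.pullbackId _).app _).symm) fun i => ?_
    show ((Scheme.Modules.pullbackId _).inv.app _).app ⊤ (e.hom.app ⊤ (pullTop (a ≫ b) (c i))) = pullTop (𝟙 _) (c i)
    rw [← pt_top, he i]
    refine Eq.trans (congrArg _ (pullTop_id _ (c i)).symm) ?_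
    exact congr($(congrArg (fun k => Scheme.Modules.Hom.app k ⊤)
      ((Scheme.Modules.pullbackId _).hom_inv_id_app (Twist.twistProjSpace n A 1))) _)
  have hba : b ≫ a = 𝟙 _ := by
    refine pn_ext (L := L) (w := crd n _) (by rw [Category.assoc, ha, hb, Category.id_comp]) ?_
      ⟨le_rfl, (Scheme.Modules.pullbackId _).app _, fun i => by rw [pt_top]; exact pullTop_id _ _⟩
    have h0 : Mt a (S := ⊤) (crd n (Spec (CommRingCat.of A))) _ c := ⟨le_rfl, σ, hσ⟩
    exact (h0.comp b).trans τ fun i => hτ i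
  exact ⟨a, ⟨b, hab, hba⟩, ha, ⟨σ⟩⟩

/-- The vanishing pattern over affine opens of the base. -/
theorem subsingleton_hnm_twistOver {n : ℕ} {T : Scheme.{u}} {W : T.Opens} (hW : IsAffineOpen W) {d : ℤ} {q : ℕ}
    (h₀ : ¬ (q = 0 ∧ 0 ≤ d)) (hn : ¬ (q = n ∧ d ≤ -((n : ℤ) + 1))) :
    Subsingleton (H10Coh.HnM (Twist.twistOver n T d) q (KRR.pr n T ⁻¹ᵁ W)) := by
  obtain ⟨a, _, ha, ⟨σ⟩⟩ := exists_affine_iso n Γ(T, W)
  let ψ := KRR.projSpaceMap n hW.fromSpec
  haveI : IsOpenImmersion ψ :=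
    MorphismProperty.of_isPullback (P := @IsOpenImmersion) (KBaseChangeCl.isPullback_map hW.fromSpec).flip inferInstance
  let j := a ≫ ψ
  have hr : j.opensRange = KRR.pr n T ⁻¹ᵁ W := by
    refine (Scheme.Hom.opensRange_comp_of_isIso a ψ).trans (SetLike.coe_injective ?_)
    show Set.range ψ = (KRR.pr n T) ⁻¹' W
    have h := KBaseChangeCl.isPullback_map (n := n) hW.fromSpec
    rw [show ψ = h.isoPullback.hom ≫ pullback.fst _ _ from (h.isoPullback_hom_fst).symm, ← Scheme.Hom.coe_opensRange,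
      Scheme.Hom.opensRange_comp_of_isIso, Scheme.Hom.coe_opensRange, Scheme.Pullback.range_fst, hW.range_fromSpec]
  have hO : IsTwistFamily fun e => (Scheme.Modules.pullback j).obj (Twist.twistOver n T e) :=
    (isTwistFamily_twistOver n T).pullback j
  obtain ⟨e1⟩ := BCReg.nonempty_pull_twist (n := n) hW.fromSpec (1 : ℤ)
  obtain ⟨e⟩ := nonempty_family_iso hO (isTwistFamily_projSpace n Γ(T, W))
    ⟨((Scheme.Modules.pullbackComp a ψ).app _).symm ≪≫ (Scheme.Modules.pullback a).mapIso e1 ≪≫ σ⟩ d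
  refine H10Coh.subsingleton_HnM_image j _ q ⊤ _ ((Scheme.Hom.image_top_eq_opensRange j).trans hr) ?_
  refine subsingleton_hn_of_iso
    ((H10Coh.shF _).mapIso ((Scheme.Modules.restrictFunctorIsoPullback j).app _ ≪≫ e).symm) ?_
  exact (H10Coh.HHEquiv _ q).toEquiv.subsingleton_congr.1 (H10Coh.Pn.subsingleton_HH_Od (R := Γ(T, W)) q h₀ hn)

variable {X P : Scheme.{u}} {r : ℕ} {π : P ⟶ X} {O : ℤ → P.Modules}

/-- `R^i π_* O(d) = 0` unless `i = 0 ≤ d` or `i = r, d ≤ -(r+1)`. -/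
theorem IsPn.van_O (hπ : IsPn r π O) {d : ℤ} {i : ℕ} (h₀ : ¬ (i = 0 ∧ 0 ≤ d))
    (hn : ¬ (i = r ∧ d ≤ -((r : ℤ) + 1))) : Van π i (O d) := by
  let B : Set X.Opens := {V | IsAffineOpen V ∧ ∃ c : Chart r π O, V ≤ c.U}
  have hB : Opens.IsBasis B := Opens.isBasis_iff_nbhd.2 fun {W x} hx => by
    obtain ⟨V, c, hV, hxV, hVW, hVc⟩ := hπ.exists_affine_nhd x W hx
    exact ⟨V, ⟨hV, c, hVc⟩, hxV, hVW⟩
  have key : ∀ V ∈ B, Subsingleton (H10Coh.HnM (O d) i (π ⁻¹ᵁ V)) := by
    rintro V ⟨hV, c, hVc⟩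
    refine (c.hnm_iff (O d) i hVc).2 ?_
    obtain ⟨e⟩ := nonempty_family_iso (hπ.tw.pullback c.j) (isTwistFamily_twistOver r (↑c.U : Scheme.{u})) c.iso d
    exact subsingleton_hn_of_iso ((H10Coh.shF _).mapIso e.symm)
      (subsingleton_hnm_twistOver (c.isAffineOpen_preimage hV hVc) h₀ hn)
  cases i with
  | zero =>
    refine IsZero.of_iso ?_ ((Coh.pushAb π).rightDerivedZeroIsoSelf.app _)
    refine (H10Coh.shF X).map_isZero (X := (Scheme.Modules.pushforward π).obj (O d)) ?_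
    rw [IsZero.iff_id_eq_zero]
    refine Scheme.Modules.hom_ext _ _ fun V => ConcreteCategory.hom_ext _ _ fun s => ?_
    change s = (0 : Γ((Scheme.Modules.pushforward π).obj (O d), V))
    refine eq_of_locally _ _ fun x hx => ?_
    obtain ⟨U, hU, hxU, hUV⟩ := Opens.isBasis_iff_nbhd.1 hB (show x ∈ V from hx)
    refine ⟨U, hUV, hxU, ?_⟩
    haveI := key U hU
    have h : Subsingleton Γ((Scheme.Modules.pushforward π).obj (O d), U) :=
      (H10Coh.H0Equiv (H10Coh.sh (O d)) (π ⁻¹ᵁ U)).toEquiv.symm.subsingleton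
    exact @Subsingleton.elim _ h _ _
  | succ m => exact H10Coh.isZero_rpush_of_vanishing π.base _ m B hB key

end Groth.Agent.H22Alg.PB
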