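import Groth.Agent.H10Coh.Stab.TwistInt
import Groth.Agent.H28Vert.PicVert
import Groth.Agent.H22Alg.RegSheaf

/-! # Twist families of invertible modules. -/

set_option autoImplicit false
set_option linter.style.haveILetI false

universe u

open CategoryTheory CategoryTheory.Limits AlgebraicGeometry
open Groth.Agent.H10Coh.Stab
attribute [local instance] HasDerivedCategory.standard
attribute [local instance] Groth.Agent.H28Vert.picLaw

noncomputable section

namespace Groth.Agent.H22Alg.PB

variable {X Y : Scheme.{u}}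

/-- The `d`-th power of the class of an invertible module. -/
def powCl {L : X.Modules} (hL : PicF.IsInvertible L) (d : ℤ) : PicLoc.PicSet X := PicGrp.cls L hL ^ d

/-- Chosen integral powers. -/
def pw {L : X.Modules} (hL : PicF.IsInvertible L) (d : ℤ) : X.Modules :=
  (PicGrp.exists_eq_cls (powCl hL d)).choose

theorem isInvertible_pw {L : X.Modules} (hL : PicF.IsInvertible L) (d : ℤ) : PicF.IsInvertible (pw hL d) :=
  (PicGrp.exists_eq_cls (powCl hL d)).choose_spec.choose

theorem cls_pw {L : X.Modules} (hL : PicF.IsInvertible L) (d : ℤ) :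
    PicGrp.cls (pw hL d) (isInvertible_pw hL d) = powCl hL d :=
  (PicGrp.exists_eq_cls (powCl hL d)).choose_spec.choose_spec.symm

theorem isTwistFamily_pw {L : X.Modules} (hL : PicF.IsInvertible L) : IsTwistFamily (pw hL) where
  inv := isInvertible_pw hL
  zero := (PicGrp.cls_eq_one_iff (isInvertible_pw hL 0)).1 (by rw [cls_pw, powCl, zpow_zero])
  add a b := by
    refine (PicGrp.cl_eq_cl_iff _ _).1 ?_
    rw [← PicGrp.cls_mul_cls_val (isInvertible_pw hL a) (isInvertible_pw hL b), cls_pw, cls_pw, powCl, powCl,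
      ← zpow_add, ← powCl, ← cls_pw hL (a + b)]
    rfl

theorem nonempty_pw_one {L : X.Modules} (hL : PicF.IsInvertible L) : Nonempty (pw hL 1 ≅ L) :=
  (PicGrp.cls_eq_cls_iff (isInvertible_pw hL 1) hL).1 (by rw [cls_pw, powCl, zpow_one])

/-- The classes of a twist family form a homomorphism. -/
theorem cls_family {O : ℤ → X.Modules} (h : IsTwistFamily O) (d : ℤ) :
    PicGrp.cls (O d) (h.inv d) = PicGrp.cls (O 1) (h.inv 1) ^ d := by
  have key : ∀ a b, PicGrp.cls (O (a + b)) (h.inv (a + b)) = PicGrp.cls (O a) (h.inv a) * PicGrp.cls (O b) (h.inv b) :=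
    fun a b => Subtype.ext (by
      rw [PicGrp.cls_mul_cls_val]
      exact ((PicGrp.cl_eq_cl_iff _ _).2 (h.add a b)).symm)
  let f : Multiplicative ℤ →* PicLoc.PicSet X :=
    MonoidHom.mk' (fun a => PicGrp.cls (O a.toAdd) (h.inv a.toAdd)) fun a b => key a.toAdd b.toAdd
  have h1 := map_zpow f (Multiplicative.ofAdd (1 : ℤ)) d
  simp only [← ofAdd_zsmul, smul_eq_mul, mul_one] at h1
  exact h1

theorem nonempty_family_iso {O O' : ℤ → X.Modules} (h : IsTwistFamily O) (h' : IsTwistFamily O')
    (e : Nonempty (O 1 ≅ O' 1)) (d : ℤ) : Nonempty (O d ≅ O' d) :=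
  (PicGrp.cls_eq_cls_iff (h.inv d) (h'.inv d)).1 (by
    rw [cls_family h, cls_family h', (PicGrp.cls_eq_cls_iff (h.inv 1) (h'.inv 1)).2 e])

theorem isTwistFamily_twistOver (n : ℕ) (T : Scheme.{u}) : IsTwistFamily fun d => Twist.twistOver n T d :=
  (isTwistFamily_projSpace n (ULift.{u} ℤ)).pullback _

end Groth.Agent.H22Alg.PB
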