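import Groth.Agent.H22Alg.PB.Sect
import Groth.Agent.H22Alg.PB.Twist
import Groth.Agent.H11Sym.SpansEpi
import Groth.Agent.H06Mod.StalkFinite

/-! # A projective bundle is a projective space over the opens on which the module is free. -/

set_option autoImplicit false
set_option linter.style.haveILetI false

universe u

open CategoryTheory CategoryTheory.Limits AlgebraicGeometry Opposite TopologicalSpace
open Groth.Agent.H11Tilde Groth.Agent.H11Ample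

noncomputable section

namespace Groth.Agent.H22Alg.PB

theorem rank_one_of_isInvertible {X : Scheme.{u}} {L : X.Modules} (h : PicF.IsInvertible L) :
    FlatMod.IsFinLocFreeOfRank 1 L := fun x =>
  let ⟨U, hxU, ⟨e⟩⟩ := h x
  ⟨U, hxU, ⟨e ≪≫ (coproductUniqueIso fun _ : Fin 1 => Coh.structureModule (↑U : Scheme.{u})).symm⟩⟩

theorem isInvertible_of_rank_one {X : Scheme.{u}} {L : X.Modules} (h : FlatMod.IsFinLocFreeOfRank 1 L) :
    PicF.IsInvertible L := fun x =>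
  let ⟨U, hxU, ⟨e⟩⟩ := h x
  ⟨U, hxU, ⟨e ≪≫ coproductUniqueIso fun _ : Fin 1 => Coh.structureModule (↑U : Scheme.{u})⟩⟩

theorem pullTop_id {X : Scheme.{u}} (M : X.Modules) (m : Γ(M, ⊤)) :
    ((Scheme.Modules.pullbackId X).hom.app M).app ⊤ (pullTop (𝟙 X) m) = m := by
  have h := unit_conjugateEquiv Adjunction.id (Scheme.Modules.pullbackPushforwardAdjunction (𝟙 X))
    (Scheme.Modules.pullbackId X).hom M
  rw [Scheme.Modules.conjugateEquiv_pullbackId_hom] at h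
  exact congr($(congrArg (fun k => Scheme.Modules.Hom.app k ⊤) h) m).symm

/-- The coordinates on `P^r_T`. -/
def crd (r : ℕ) (T : Scheme.{u}) (i : Fin (r + 1)) : Γ(Twist.twistOver r T 1, ⊤) :=
  pullTop (CMReg.fstP r T) (ProjUP.coord r (ULift.{u} ℤ) i)

theorem crd_cover (r : ℕ) (T : Scheme.{u}) (z : ↥(KRR.PY r T)) : ∃ i, z ∈ gen (Twist.twistOver r T 1) (crd r T i) := by
  obtain ⟨k, hk, hz⟩ := CMReg.coords_cover z
  rw [CMReg.coords, dif_pos hk] at hz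
  exact ⟨⟨k, hk⟩, hz⟩

/-- A morphism into `P^r_U` is determined by the pulled back coordinates. -/
theorem pn_ext {r : ℕ} {T U : Scheme.{u}} {h h' : T ⟶ KRR.PY r U} {L : T.Modules} {w : Fin (r + 1) → Γ(L, ⊤)}
    (hsnd : h ≫ KRR.pr r U = h' ≫ KRR.pr r U) (hh : Mt h (S := ⊤) (crd r U) L w)
    (hh' : Mt h' (S := ⊤) (crd r U) L w) : h = h' := by
  refine pullback.hom_ext ?_ hsnd
  let R := ULift.{u} ℤ
  let b := Pi.basisFun R (Fin (r + 1))
  let ι : (Fin (r + 1) → R) →ₗ[R] MvPolynomial (Fin (r + 1)) R := b.constr R MvPolynomial.X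
  have hιX : ∀ i, ι (b i) = MvPolynomial.X i := fun i => b.constr_basis R _ i
  have hι : ∀ m, ι m ∈ CohB1.polyGrading r R 1 := fun m => by
    rw [← b.sum_repr m, map_sum]
    refine Submodule.sum_mem _ fun i _ => ?_
    rw [map_smul, hιX]
    exact Submodule.smul_mem _ _ (X_mem i)
  have hsym := SymmetricAlgebra.IsSymmetricAlgebra.mvPolynomial (R := R) (Fin (r + 1)) b
  obtain ⟨hS, τ, hτ⟩ := hh
  obtain ⟨hS', τ', hτ'⟩ := hh'
  let c := Twist.twistProjSpace r R 1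
  let p := CMReg.fstP r U
  refine toProj_ext (CohB1.polyGrading r R) (h ≫ p) hι hsym (h' ≫ p) (specULiftZIsTerminal.hom_ext _ _)
    (((Scheme.Modules.pullbackComp h p).app c).symm ≪≫ τ ≪≫ τ'.symm ≪≫ (Scheme.Modules.pullbackComp h' p).app c)
    (s := Set.range b) b.span_eq ?_
  rintro _ ⟨i, rfl⟩
  rw [PnPoints.globalSec_congr (CohB1.polyGrading r R) (hι (b i)) (X_mem i) (hιX i)]
  have e : ∀ (f : T ⟶ KRR.PY r U),
      ((Scheme.Modules.pullbackComp f p).inv.app c).app ⊤ (pullTop (f ≫ p) (ProjUP.coord r R i)) =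
        pullTop f (crd r U i) := fun f => by
    rw [← pt_top (f ≫ p) (ProjUP.coord r R i)]
    exact (pt_comp f p le_rfl le_rfl _).trans (congrArg (pullTop f) (pt_top p _))
  show ((Scheme.Modules.pullbackComp h' p).hom.app c).app ⊤ (τ'.inv.app ⊤ (τ.hom.app ⊤
    (((Scheme.Modules.pullbackComp h p).inv.app c).app ⊤ (pullTop (h ≫ p) (ProjUP.coord r R i))))) =
      pullTop (h' ≫ p) (ProjUP.coord r R i)
  rw [e h, ← pt_top h (crd r U i), hτ i, ← hτ' i]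
  have h1 : τ'.inv.app ⊤ (τ'.hom.app ⊤ (pt h' hS' (crd r U i))) = pt h' hS' (crd r U i) :=
    congr($(congrArg (fun k => Scheme.Modules.Hom.app k ⊤) τ'.hom_inv_id) _)
  rw [h1, pt_top h', ← e h']
  exact congr($(congrArg (fun k => Scheme.Modules.Hom.app k ⊤) ((Scheme.Modules.pullbackComp h' p).inv_hom_id_app c)) _)

/-- A morphism into `P^r_U` from generating sections. -/
theorem exists_pn {r : ℕ} {T U : Scheme.{u}} (g : T ⟶ U) {L : T.Modules} (hL : PicF.IsInvertible L)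
    (w : Fin (r + 1) → Γ(L, ⊤)) (hw : ∀ x, ∃ i, x ∈ gen L (w i)) :
    ∃ h : T ⟶ KRR.PY r U, h ≫ KRR.pr r U = g ∧ Mt h (S := ⊤) (crd r U) L w := by
  obtain ⟨ρ, τ, hτ⟩ := H11Proj.exists_toPn' hL w hw
  let h : T ⟶ KRR.PY r U := pullback.lift ρ g (specULiftZIsTerminal.hom_ext _ _)
  have hρ : h ≫ CMReg.fstP r U = ρ := pullback.lift_fst _ _ _
  refine ⟨h, pullback.lift_snd _ _ _, ?_⟩
  clear_value h
  subst hρ
  have hm : Mt (h ≫ CMReg.fstP r U) (S := ⊤) (fun i => ProjUP.coord r (ULift.{u} ℤ) i) L w :=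
    ⟨le_rfl, τ, fun i => by rw [pt_top]; exact hτ i⟩
  have := hm.unfold (le_refl _)
  simp only [pt_top] at this
  exact this

section Bundle

variable {X P : Scheme.{u}} {π : P ⟶ X} {E : X.Modules} {O1 : P.Modules}
  {q : (Scheme.Modules.pullback π).obj E ⟶ O1} (hPB : KRR.IsProjBundle π E O1 q)
  {U : X.Opens} {r : ℕ} (e : E.restrict U.ι ≅ FlatMod.freeMod (↑U : Scheme.{u}) (r + 1))

variable (q) in
/-- The images of the basis. -/
def vP (i : Fin (r + 1)) : Γ(O1, π ⁻¹ᵁ U₀ U) := q.app _ (OmegaSh.pullSect π E (U₀ U) (bas e i))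

theorem quot_iff {T : Scheme.{u}} {L : T.Modules} (g' : T ⟶ (↑U : Scheme.{u}))
    (w : Fin (r + 1) → Γ(L, ⊤)) (u : E ⟶ (Scheme.Modules.pushforward (g' ≫ U.ι)).obj L)
    (hu : ∀ i, u.app (U₀ U) (bas e i) = L.presheaf.map (homOfLE (le_top : (g' ≫ U.ι) ⁻¹ᵁ U₀ U ≤ ⊤)).op (w i))
    (h : T ⟶ P) (hg : h ≫ π = g' ≫ U.ι) :
    (∃ τ : (Scheme.Modules.pullback h).obj O1 ≅ L,
      (Scheme.Modules.pullbackCongr hg).inv.app E ≫ (Scheme.Modules.pullbackComp h π).inv.app E ≫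
        (Scheme.Modules.pullback h).map q ≫ τ.hom =
          ((Scheme.Modules.pullbackPushforwardAdjunction (g' ≫ U.ι)).homEquiv E L).symm u) ↔
      Mt h (vP q e) L w := by
  have htop : (⊤ : T.Opens) ≤ (g' ≫ U.ι) ⁻¹ᵁ U₀ U := fun x _ => ⟨g' x, trivial, rfl⟩
  generalize g' ≫ U.ι = g at u hu hg htop ⊢
  subst hg
  let G : ((Scheme.Modules.pullback h).obj O1 ≅ L) → ((Scheme.Modules.pullback (h ≫ π)).obj E ⟶ L) := fun τ =>
    (Scheme.Modules.pullbackCongr (rfl : h ≫ π = h ≫ π)).inv.app E ≫ (Scheme.Modules.pullbackComp h π).inv.app E ≫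
      (Scheme.Modules.pullback h).map q ≫ τ.hom
  have hG : ∀ τ i, ((Scheme.Modules.pullbackPushforwardAdjunction (h ≫ π)).homEquiv E L (G τ)).app (U₀ U) (bas e i) =
      τ.hom.app (h ⁻¹ᵁ (π ⁻¹ᵁ U₀ U)) (OmegaSh.pullSect h O1 _ (vP q e i)) := fun τ i => by
    refine (H11Sym.homEquiv_app_apply (h ≫ π) (G τ) (U₀ U) (bas e i)).trans ?_
    rw [vP, H17.PullSect.pullSect_natural h q]
    refine congrArg (τ.hom.app (h ⁻¹ᵁ (π ⁻¹ᵁ U₀ U))) (congrArg (((Scheme.Modules.pullback h).map q).app _) ?_)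
    exact H11Sym.pullSect_comp h π E (U₀ U) (bas e i)
  constructor
  · rintro ⟨τ, hτ⟩
    refine ⟨htop, τ, fun i => ?_⟩
    have h1 := hG τ i
    rw [show G τ = _ from hτ, Equiv.apply_symm_apply, hu i] at h1
    refine (app_map_apply τ.hom htop _).trans ?_
    refine (congrArg (L.presheaf.map (homOfLE htop).op) h1.symm).trans ?_
    exact (H10Coh.mres_mres _ _ _ _).trans (H10Coh.mres_self _ _ _)
  · rintro ⟨hS, τ, hτ⟩
    refine ⟨τ, ?_⟩
    refine ((Scheme.Modules.pullbackPushforwardAdjunction (h ≫ π)).homEquiv E L).injective ?_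
    rw [Equiv.apply_symm_apply]
    refine ext_push e (h ≫ π) htop fun i => (hG τ i).trans ?_
    rw [hu i]
    refine res_inj L htop le_top ?_
    rw [H10Coh.mres_mres, H10Coh.mres_self]
    exact (app_map_apply τ.hom htop _).symm.trans (hτ i)

include e in
theorem epi_of_gen {T : Scheme.{u}} {L : T.Modules} (g' : T ⟶ (↑U : Scheme.{u}))
    (w : Fin (r + 1) → Γ(L, ⊤)) (hw : ∀ x, ∃ i, x ∈ gen L (w i))
    (u : E ⟶ (Scheme.Modules.pushforward (g' ≫ U.ι)).obj L)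
    (hu : ∀ i, u.app (U₀ U) (bas e i) = L.presheaf.map (homOfLE (le_top : (g' ≫ U.ι) ⁻¹ᵁ U₀ U ≤ ⊤)).op (w i)) :
    Epi (((Scheme.Modules.pullbackPushforwardAdjunction (g' ≫ U.ι)).homEquiv E L).symm u) := by
  refine H11Sym.epi_homEquiv_symm_of_spans fun x => ?_
  obtain ⟨i, hi⟩ := hw x
  obtain ⟨A, hA, hxA, hAU⟩ := exists_isAffineOpen_mem_and_subset (U := U₀ U) (x := (g' ≫ U.ι) x)
    ⟨g' x, trivial, rfl⟩
  refine ⟨⟨A, hA, E.presheaf.map (homOfLE hAU).op (bas e i), gen L (w i) ⊓ (g' ≫ U.ι) ⁻¹ᵁ A, inf_le_right, ?_⟩,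
    hi, hxA⟩
  have h2 : L.presheaf.map (homOfLE (inf_le_right : gen L (w i) ⊓ (g' ≫ U.ι) ⁻¹ᵁ A ≤ (g' ≫ U.ι) ⁻¹ᵁ A)).op
      (u.app A (E.presheaf.map (homOfLE hAU).op (bas e i))) =
      L.presheaf.map (homOfLE (le_top : gen L (w i) ⊓ (g' ≫ U.ι) ⁻¹ᵁ A ≤ ⊤)).op (w i) := by
    refine (congrArg _ (app_map_apply u hAU (bas e i))).trans ?_
    show L.presheaf.map _ (L.presheaf.map _ (u.app (U₀ U) (bas e i))) = _
    rw [hu i]
    exact (congrArg _ (H10Coh.mres_mres L _ _ _)).trans (H10Coh.mres_mres L _ _ _)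
  refine (show IsGen L (L.presheaf.map (homOfLE (inf_le_right : gen L (w i) ⊓ (g' ≫ U.ι) ⁻¹ᵁ A ≤ (g' ≫ U.ι) ⁻¹ᵁ A)).op
    (u.app A (E.presheaf.map (homOfLE hAU).op (bas e i)))) from ?_)
  rw [h2]
  have h := (isGen_gen (L := L) (w i)).res
    (inf_le_left : gen L (w i) ⊓ (g' ≫ U.ι) ⁻¹ᵁ A ≤ gen L (w i))
  rw [H10Coh.mres_mres] at h
  exact h

include hPB in
/-- Morphisms into `P` over `U` from generating sections. -/
theorem pb_univ {T : Scheme.{u}} (g' : T ⟶ (↑U : Scheme.{u})) {L : T.Modules}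
    (hL : FlatMod.IsFinLocFreeOfRank 1 L) (w : Fin (r + 1) → Γ(L, ⊤)) (hw : ∀ x, ∃ i, x ∈ gen L (w i)) :
    ∃! h : T ⟶ P, h ≫ π = g' ≫ U.ι ∧ Mt h (vP q e) L w := by
  obtain ⟨u, hu⟩ := exists_push e g' w
  obtain ⟨h, ⟨hg, hτ⟩, huniq⟩ := hPB.univ T (g' ≫ U.ι) L hL _ (epi_of_gen e g' w hw u hu)
  refine ⟨h, ⟨hg, (quot_iff e g' w u hu h hg).1 hτ⟩, fun h' ⟨hg', hm⟩ => ?_⟩
  exact huniq h' ⟨hg', (quot_iff e g' w u hu h' hg').2 hm⟩

include hPB in
theorem gen_cover (x : P) (hx : π x ∈ U) :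
    ∃ (i : Fin (r + 1)), ∀ hxU : x ∈ π ⁻¹ᵁ U₀ U,
      Function.Bijective fun c : P.presheaf.stalk x => c • O1.presheaf.germ (π ⁻¹ᵁ U₀ U) x hxU (vP q e i) := by
  have hL := isInvertible_of_rank_one hPB.invertible
  let φ := (Scheme.Modules.pullbackPushforwardAdjunction π).homEquiv E O1 q
  have hφ : H11Sym.Spans φ := H11Sym.spans_of_epi hL φ (by rw [Equiv.symm_apply_apply]; exact hPB.epi)
  obtain ⟨g, hxg⟩ := hφ x
  have hxU : x ∈ π ⁻¹ᵁ U₀ U := (U.ι_image_top).ge hx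
  let V := g.V ⊓ π ⁻¹ᵁ U₀ U
  have hxV : x ∈ V := ⟨hxg, hxU⟩
  let W := g.U ⊓ U₀ U
  obtain ⟨W', hW'⟩ : ∃ W' : (↑U : Scheme.{u}).Opens, U.ι ''ᵁ W' = W :=
    ⟨U.ι ⁻¹ᵁ W, by
      rw [Scheme.Hom.image_preimage_eq_opensRange_inf, Scheme.Opens.opensRange_ι]
      exact inf_eq_right.2 fun y hy => (U.ι_image_top).le hy.2⟩
  -- a section is a combination of the basis
  obtain ⟨d, hd⟩ : ∃ d : Fin (r + 1) → Γ(X, W), E.presheaf.map (homOfLE (inf_le_left : W ≤ g.U)).op g.m =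
      ∑ i, d i • E.presheaf.map (homOfLE (inf_le_right : W ≤ U₀ U)).op (bas e i) := by
    obtain ⟨b⟩ := H8Props.FinLocFree.exists_basis_of_chart E e
      (V := W) (fun y hy => (U.ι_image_top).le hy.2)
    have key : ∀ (W : X.Opens) (hW : U.ι ''ᵁ W' = W) (hWU : W ≤ U₀ U) (m : Γ(E, W)),
        ∃ d : Fin (r + 1) → Γ(X, W), m = ∑ i, d i • E.presheaf.map (homOfLE hWU).op (bas e i) := by
      rintro _ rfl hWU m
      obtain ⟨c, hc⟩ := H29Fitt.exists_eq_sum_gen (r + 1) W' (e.hom.app W' (m : Γ(E.restrict U.ι, W')))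
      refine ⟨fun i => (U.ι.appIso W').inv (c i), ?_⟩
      have h1 := congrArg (e.inv.app W') hc
      rw [map_sum] at h1
      refine Eq.trans ?_ (Eq.trans h1.symm (Finset.sum_congr rfl fun i _ => ?_))
      · exact congr($(congrArg (fun k => Scheme.Modules.Hom.app k W') e.hom_inv_id) m).symm
      · rw [Scheme.Modules.Hom.app_smul, ← H29Fitt.res_gen (r + 1) i (le_top : W' ≤ ⊤), app_map_apply]
        rfl
    exact key W hW' _ _
  let O := P.presheaf.stalk x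
  let G : Γ(O1, V) → O1.presheaf.stalk x := O1.presheaf.germ V x hxV
  let s : Fin (r + 1) → O1.presheaf.stalk x := fun i => O1.presheaf.germ (π ⁻¹ᵁ U₀ U) x hxU (vP q e i)
  let g₀ : O1.presheaf.stalk x := O1.presheaf.germ (π ⁻¹ᵁ g.U) x (g.le hxg) (H11Sym.uSec φ g.m)
  have hgen : Function.Bijective fun c : O => c • g₀ := by
    have h := g.gen x hxg
    rwa [H11Proj.resS, TopCat.Presheaf.germ_res_apply] at h
  have hsum : g₀ = ∑ i, P.presheaf.germ (π ⁻¹ᵁ W) x ⟨g.le hxg, hxU⟩ (π.app W (d i)) • s i := by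
    have h1 := congrArg (fun m => O1.presheaf.germ (π ⁻¹ᵁ W) x ⟨g.le hxg, hxU⟩ (H11Sym.uSec φ m)) hd
    simp only [H11Sym.uSec_res, map_sum] at h1
    rw [H11Proj.resS, TopCat.Presheaf.germ_res_apply] at h1
    refine h1.trans ((map_sum (O1.presheaf.germ (π ⁻¹ᵁ W) x ⟨g.le hxg, hxU⟩).hom _ _).trans
      (Finset.sum_congr rfl fun i _ => ?_))
    rw [Scheme.Modules.Hom.app_smul]
    refine (H06Mod.germ_smul O1 (x := x) (π ⁻¹ᵁ W) ⟨g.le hxg, hxU⟩ (π.app W (d i)) _).trans ?_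
    refine congrArg (_ • ·) ?_
    rw [app_map_apply φ]
    refine (TopCat.Presheaf.germ_res_apply _ _ _ _ _).trans ?_
    exact congrArg _ (H11Sym.homEquiv_app_apply π q (U₀ U) (bas e i))
  choose a ha using fun i => hgen.2 (s i)
  have h1 : (∑ i, P.presheaf.germ (π ⁻¹ᵁ W) x ⟨g.le hxg, hxU⟩ (π.app W (d i)) * a i) = 1 := by
    refine hgen.1 ?_
    show _ • g₀ = (1 : O) • g₀
    rw [one_smul, Finset.sum_smul]
    refine Eq.trans (Finset.sum_congr rfl fun i _ => ?_) hsum.symm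
    rw [mul_smul]
    exact congrArg (_ • ·) (ha i)
  obtain ⟨i, hi⟩ : ∃ i, IsUnit (a i) := by
    by_contra hne
    push Not at hne
    have : (1 : O) ∈ IsLocalRing.maximalIdeal O :=
      h1 ▸ Ideal.sum_mem _ fun i _ => Ideal.mul_mem_left _ _ (hne i)
    exact (IsLocalRing.maximalIdeal.isMaximal O).ne_top ((Ideal.eq_top_iff_one _).2 this)
  refine ⟨i, fun _ => ?_⟩
  obtain ⟨b, hb⟩ := hi
  have hfun : (fun c : O => c • s i) = (fun c : O => c • g₀) ∘ fun c => c * b := by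
    funext c
    show c • s i = (c * ↑b) • g₀
    rw [← ha i, hb, mul_smul]
  show Function.Bijective fun c : O => c • s i
  rw [hfun]
  exact hgen.comp (Units.mulRight_bijective b)

include hPB e in
/-- Over `U` the bundle is a projective space. -/
theorem exists_chart :
    ∃ (j : KRR.PY r (↑U : Scheme.{u}) ⟶ P) (_ : IsOpenImmersion j), j ≫ π = KRR.pr r (↑U : Scheme.{u}) ≫ U.ι ∧
      j.opensRange = π ⁻¹ᵁ U ∧
      Nonempty ((Scheme.Modules.pullback j).obj O1 ≅ Twist.twistOver r (↑U : Scheme.{u}) 1) := by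
  have hO := isInvertible_of_rank_one hPB.invertible
  let jQ := (π ⁻¹ᵁ U).ι
  let πQ : (↑(π ⁻¹ᵁ U) : Scheme.{u}) ⟶ (↑U : Scheme.{u}) := π ∣_ U
  have hw : πQ ≫ U.ι = jQ ≫ π := morphismRestrict_ι π U
  have hQ : (⊤ : (↑(π ⁻¹ᵁ U) : Scheme.{u}).Opens) ≤ jQ ⁻¹ᵁ (π ⁻¹ᵁ U₀ U) := fun x _ =>
    (U.ι_image_top).ge x.2
  let v := fun i => pt jQ hQ (vP q e i)
  -- from the bundle
  have hv : ∀ x, ∃ i, x ∈ gen ((Scheme.Modules.pullback jQ).obj O1) (v i) := fun x => by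
    obtain ⟨i, hi⟩ := gen_cover hPB e (jQ x) x.2
    obtain ⟨A, b, hxA, hb⟩ := exists_gen hO (jQ x)
    let D := A ⊓ π ⁻¹ᵁ U₀ U
    have hxD : jQ x ∈ D := ⟨hxA, hQ trivial⟩
    obtain ⟨c, hc⟩ := exists_coeff (hb.res (inf_le_left : D ≤ A))
      (O1.presheaf.map (homOfLE (inf_le_right : D ≤ π ⁻¹ᵁ U₀ U)).op (vP q e i))
    have hu : IsUnit (P.presheaf.germ D (jQ x) hxD c) := by
      have hb' := (hb.res (inf_le_left : D ≤ A)) (jQ x) hxD
      obtain ⟨d, hd⟩ := (hi (hQ trivial)).2 (O1.presheaf.germ D (jQ x) hxD (O1.presheaf.map (homOfLE inf_le_left).op b))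
      refine IsUnit.of_mul_eq_one (a := _) d (hb'.1 ?_)
      show (_ * d) • _ = (1 : P.presheaf.stalk (jQ x)) • _
      have hci : O1.presheaf.germ (π ⁻¹ᵁ U₀ U) (jQ x) (hQ trivial) (vP q e i) =
          P.presheaf.germ D (jQ x) hxD c • O1.presheaf.germ D (jQ x) hxD (O1.presheaf.map (homOfLE inf_le_left).op b) := by
        rw [← H06Mod.germ_smul, ← hc, TopCat.Presheaf.germ_res_apply]
      beta_reduce at hd
      rw [one_smul, mul_comm, mul_smul, ← hci]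
      exact hd
    obtain ⟨D', hD'D, hxD', hu'⟩ : ∃ D' : P.Opens, ∃ h : D' ≤ D, jQ x ∈ D' ∧
        IsUnit (P.presheaf.map (homOfLE h).op c) :=
      ⟨P.basicOpen c, P.basicOpen_le c, (P.mem_basicOpen c (jQ x) hxD).2 hu,
        RingedSpace.isUnit_res_basicOpen P.toRingedSpace c⟩
    refine ⟨i, mem_gen_of_isGen (W := jQ ⁻¹ᵁ D') ?_ hxD'⟩
    have h1 : IsGen O1 (O1.presheaf.map (homOfLE hD'D).op
        (O1.presheaf.map (homOfLE (inf_le_right : D ≤ π ⁻¹ᵁ U₀ U)).op (vP q e i))) := by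
      rw [hc, Scheme.Modules.map_smul]
      exact ((hb.res inf_le_left).res hD'D).smul hu'
    have h2 := h1.pullSect jQ
    rw [pullSect_res jQ O1 hD'D, pullSect_res jQ O1 (inf_le_right : D ≤ π ⁻¹ᵁ U₀ U), H10Coh.mres_mres] at h2
    show IsGen _ (((Scheme.Modules.pullback jQ).obj O1).presheaf.map _ (pt jQ hQ (vP q e i)))
    rw [pt, H10Coh.mres_mres]
    exact h2
  obtain ⟨b, hb, hbm⟩ := exists_pn πQ (H11Ample.isInvertible_pullback jQ hO) v hv
  -- into the bundle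
  have htw : FlatMod.IsFinLocFreeOfRank 1 (Twist.twistOver r (↑U : Scheme.{u}) 1) :=
    rank_one_of_isInvertible (RegSheaf.isInvertible_twistOver 1)
  obtain ⟨a₀, ⟨ha₀, ha₀m⟩, -⟩ := pb_univ hPB e (KRR.pr r (↑U : Scheme.{u})) htw _ (crd_cover r _)
  let a := IsOpenImmersion.lift jQ a₀ (by
    rw [Scheme.Opens.range_ι]
    rintro _ ⟨y, rfl⟩
    show π (a₀ y) ∈ U
    rw [← Scheme.Hom.comp_apply, ha₀]
    exact (KRR.pr r (↑U : Scheme.{u}) y).2)
  have haj : a ≫ jQ = a₀ := IsOpenImmersion.lift_fac _ _ _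
  have haπ : a ≫ πQ = KRR.pr r (↑U : Scheme.{u}) := by
    rw [← cancel_mono U.ι, Category.assoc, hw, ← Category.assoc, haj, ha₀]
  have ham : Mt a (S := ⊤) v _ (crd r (↑U : Scheme.{u})) := (show Mt (a ≫ jQ) (vP q e) _ _ from haj ▸ ha₀m).unfold hQ
  -- one composite
  have hab : a ≫ b = 𝟙 _ := by
    obtain ⟨_, σ, hσ⟩ := ham
    refine pn_ext (L := Twist.twistOver r (↑U : Scheme.{u}) 1) (w := crd r _)
      (by rw [Category.assoc, hb, haπ, Category.id_comp])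
      ((hbm.comp a).trans σ fun i => by rw [← pt_top]; exact hσ i) ?_
    refine ⟨le_rfl, (Scheme.Modules.pullbackId _).app _, fun i => ?_⟩
    rw [pt_top]
    exact pullTop_id _ _
  -- the other
  have hba : b ≫ a = 𝟙 _ := by
    rw [← cancel_mono jQ, Category.assoc, haj, Category.id_comp]
    obtain ⟨_, τ, hτ⟩ := hbm
    refine (pb_univ hPB e πQ (rank_one_of_isInvertible (H11Ample.isInvertible_pullback jQ hO)) v hv).unique
      ⟨by rw [Category.assoc, ha₀, ← Category.assoc, hb], ?_⟩ ⟨hw.symm, Mt.self jQ hQ⟩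
    exact (ha₀m.comp b).trans τ fun i => by rw [← pt_top]; exact hτ i
  haveI : IsIso a := ⟨b, hab, hba⟩
  haveI : IsOpenImmersion a₀ := haj ▸ inferInstance
  refine ⟨a₀, inferInstance, ha₀, ?_, ?_⟩
  · simp only [← haj, Scheme.Hom.opensRange_comp_of_isIso]
    exact Scheme.Opens.opensRange_ι _
  · obtain ⟨-, τ, -⟩ := ha₀m
    exact ⟨τ⟩

end Bundle

end Groth.Agent.H22Alg.PB
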