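import Groth.Agent.H22Alg.PB.Reg
import Groth.Agent.H11Sym.BundleTaut
import Groth.Agent.H11Sym.SymSheaf
import Groth.Agent.H11Sym.VeryAmple
import Groth.Agent.H11Proj.RelProjExists

/-! # Projective bundles exist; connectedness. -/

set_option autoImplicit false
set_option linter.style.haveILetI false

universe u

open CategoryTheory CategoryTheory.Limits AlgebraicGeometry Opposite TopologicalSpace
open Groth.Agent.H11Tilde Groth.Agent.H11Ample
attribute [local instance] HasDerivedCategory.standard

noncomputable section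

namespace Groth.Agent.H22Alg.PB

theorem exists_isProjBundle {X : Scheme.{u}} (E : X.Modules) (hE : Coh.IsQCoh E) :
    ∃ (P : Scheme.{u}) (π : P ⟶ X) (O1 : P.Modules) (q : (Scheme.Modules.pullback π).obj E ⟶ O1),
      KRR.IsProjBundle π E O1 q := by
  obtain ⟨𝒯, j, hT⟩ := H11Sym.exists_isGrSymAlg E hE
  obtain ⟨P, p, chart, hP⟩ := H11Proj.exists_isRelProj 𝒯
  obtain ⟨O1, lam, hL⟩ := H11Tilde.exists_isRelTwist hP 1
  obtain ⟨φ, hφ⟩ := H11Sym.exists_canon hE hT hP hL
  refine ⟨P, p, O1, ((Scheme.Modules.pullbackPushforwardAdjunction p).homEquiv E O1).symm φ,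
    rank_one_of_isInvertible (H11Sym.isInvertible_twist_one hE hT hP hL),
    H11Sym.epi_homEquiv_symm_of_spans (H11Sym.spans_of_eq_ks hE hT hL hφ), fun T g L hL' s hs => ?_⟩
  exact H11Sym.existsUnique_toBundle hE hT hP hL hφ g L (isInvertible_of_rank_one hL') s hs

variable {X P : Scheme.{u}}

theorem connectedSpace_of_bijective_appTop [ConnectedSpace ↥X] (π : P ⟶ X) [Nonempty ↥P]
    (h : Function.Bijective π.appTop) : ConnectedSpace ↥P := by
  haveI : PreconnectedSpace ↥P := by
    refine preconnectedSpace_iff_clopen.2 fun A hA => ?_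
    by_contra hne
    push Not at hne
    let U : P.Opens := ⟨A, hA.isOpen⟩
    let V : P.Opens := ⟨Aᶜ, hA.compl.isOpen⟩
    have hUV : U ⊓ V = ⊥ := by
      ext x
      exact iff_of_false (fun hx => hx.2 hx.1) (fun hx => hx)
    let W : Bool → P.Opens := fun b => cond b U V
    let sec : ∀ b, Γ(P, W b) := fun b => Bool.rec (motive := fun b => Γ(P, W b)) (0 : Γ(P, V)) (1 : Γ(P, U)) b
    have hbot : ∀ Y : P.Opens, Y ≤ ⊥ → Subsingleton Γ(P, Y) := fun Y hY => by
      rw [show Y = ⊥ from le_bot_iff.1 hY]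
      infer_instance
    obtain ⟨e₀, he₀, -⟩ := P.sheaf.existsUnique_gluing' W ⊤ (fun b => homOfLE le_top)
      (fun x _ => Opens.mem_iSup.2 (by
        by_cases hx : x ∈ A
        · exact ⟨true, hx⟩
        · exact ⟨false, hx⟩)) sec (fun a b => by
        cases a <;> cases b
        · rfl
        · exact @Subsingleton.elim _ (hbot _ (le_of_le_of_eq (inf_comm _ _).le hUV)) _ _
        · exact @Subsingleton.elim _ (hbot _ hUV.le) _ _
        · rfl)
    let e : Γ(P, ⊤) := e₀
    have he : ∀ b, P.presheaf.map (homOfLE (le_top : W b ≤ ⊤)).op e = sec b := he₀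
    have he' : e * e = e := by
      refine P.sheaf.eq_of_locally_eq' W ⊤ (fun b => homOfLE le_top) (fun x _ => Opens.mem_iSup.2 (by
        by_cases hx : x ∈ A
        · exact ⟨true, hx⟩
        · exact ⟨false, hx⟩)) _ _ fun b => ?_
      have hb : P.presheaf.map (homOfLE (le_top : W b ≤ ⊤)).op e = sec b := he b
      show P.presheaf.map (homOfLE (le_top : W b ≤ ⊤)).op (e * e) = P.presheaf.map (homOfLE (le_top : W b ≤ ⊤)).op e
      rw [map_mul, hb]
      cases b
      · exact mul_zero _
      · exact mul_one _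
    obtain ⟨f, hf⟩ := h.2 e
    have hf' : f * f = f := h.1 (by rw [map_mul, hf, he'])
    have hsum : (X.basicOpen f : Set X) ∪ X.basicOpen (1 - f) = Set.univ := by
      refine Set.eq_univ_of_forall fun x => ?_
      by_contra hx
      simp only [Set.mem_union, SetLike.mem_coe, Scheme.mem_basicOpen_top, not_or] at hx
      refine hx.2 ?_
      rw [map_sub, map_one]
      exact IsLocalRing.isUnit_one_sub_self_of_mem_nonunits _ hx.1
    have hdisj : (X.basicOpen f : Set X) ∩ X.basicOpen (1 - f) = ∅ := by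
      rw [← Opens.coe_inf, ← Scheme.basicOpen_mul, mul_sub, mul_one, hf', sub_self, Scheme.basicOpen_zero]
      rfl
    have hmem : ∀ x : P, x ∈ A ↔ π x ∈ X.basicOpen f := fun x => by
      rw [show π x ∈ X.basicOpen f ↔ x ∈ π ⁻¹ᵁ X.basicOpen f from Iff.rfl, Scheme.preimage_basicOpen_top, hf,
        Scheme.mem_basicOpen_top]
      by_cases hx : x ∈ A
      · refine iff_of_true hx ?_
        have hb : P.presheaf.map (homOfLE (le_top : U ≤ ⊤)).op e = 1 := he true
        rw [← P.presheaf.germ_res_apply (homOfLE (le_top : U ≤ ⊤)) x hx]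
        rw [hb, map_one]
        exact isUnit_one
      · refine iff_of_false hx ?_
        have hb : P.presheaf.map (homOfLE (le_top : V ≤ ⊤)).op e = 0 := he false
        rw [← P.presheaf.germ_res_apply (homOfLE (le_top : V ≤ ⊤)) x hx]
        rw [hb, map_zero]
        exact not_isUnit_zero
    have hcl : IsClopen (X.basicOpen f : Set X) := by
      refine ⟨⟨?_⟩, (X.basicOpen f).isOpen⟩
      rw [show (X.basicOpen f : Set X)ᶜ = (X.basicOpen (1 - f) : Set X) from
        (IsCompl.of_eq hdisj hsum).compl_eq]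
      exact (X.basicOpen (1 - f)).isOpen
    rcases isClopen_iff.1 hcl with h0 | h1
    · exact hne.1.ne_empty (Set.eq_empty_of_forall_notMem fun x hx => by
        have := (hmem x).1 hx
        rw [← SetLike.mem_coe, h0] at this
        exact this)
    · exact hne.2 (Set.eq_univ_of_forall fun x => (hmem x).2 (by rw [← SetLike.mem_coe, h1]; trivial))
  exact ⟨inferInstance⟩

variable {r : ℕ} {π : P ⟶ X} {O : ℤ → P.Modules} (hπ : IsPn r π O)

include hπ

theorem IsPn.bijective_appTop : Function.Bijective π.appTop := by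
  have hO := H8Props.FinLocFree.isQCoh_of_isFinLocFree _ (PnVan.finLocFree_of_inv (PnDeg0.isInvertible_structure X))
  haveI := hπ.isIso_unit hO
  have hu : Function.Bijective (OmegaSh.pullSect π (Coh.structureModule X) ⊤) :=
    H17.PullSect.bijective_app ((Scheme.Modules.pullbackPushforwardAdjunction π).unit.app (Coh.structureModule X)) ⊤
  let one : Γ(Coh.structureModule X, ⊤) := H11Ample.one (⊤ : X.Opens)
  have hgen : IsGen (Coh.structureModule X) one := H11Ample.isGen_one ⊤
  have hgen' := hgen.pullSect π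
  have hb := hgen'.bijective (le_refl (π ⁻¹ᵁ ⊤))
  simp only [H10Coh.mres_self] at hb
  have hcomp : (fun r : Γ(P, π ⁻¹ᵁ ⊤) => r • OmegaSh.pullSect π (Coh.structureModule X) ⊤ one) ∘ π.app ⊤ =
      fun r : Γ(X, ⊤) => OmegaSh.pullSect π (Coh.structureModule X) ⊤ (r • one) := by
    funext r
    exact (OmegaSh.pullSect_smul π (Coh.structureModule X) ⊤ r one).symm
  have hX := hgen.bijective (le_refl (⊤ : X.Opens))
  simp only [H10Coh.mres_self] at hX
  refine (Function.Bijective.of_comp_iff' hb π.appTop).1 ?_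
  exact (congrArg Function.Bijective hcomp).mpr (hu.comp hX)

theorem IsPn.nonempty [Nonempty ↥X] : Nonempty ↥P := by
  obtain ⟨x⟩ := ‹Nonempty ↥X›
  obtain ⟨c, hc⟩ := hπ.chart x
  let T : Scheme.{u} := ↑c.U
  let w : Fin (r + 1) → Γ(Coh.structureModule T, ⊤) := fun i => if i = 0 then H11Ample.one ⊤ else 0
  obtain ⟨h, -, -⟩ := exists_pn (r := r) (𝟙 T) (PnDeg0.isInvertible_structure T) w fun z => ⟨0, by
    refine mem_gen_of_isGen (W := ⊤) ?_ trivial
    rw [H10Coh.mres_self]
    simp only [w, if_pos]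
    exact H11Ample.isGen_one ⊤⟩
  exact ⟨c.j (h ⟨x, hc⟩)⟩

theorem IsPn.connectedSpace [ConnectedSpace ↥X] : ConnectedSpace ↥P :=
  haveI := hπ.nonempty
  connectedSpace_of_bijective_appTop π hπ.bijective_appTop

theorem IsPn.isNoetherian [IsNoetherian X] : IsNoetherian P :=
  haveI := hπ.isProper
  haveI : IsLocallyNoetherian P := LocallyOfFiniteType.isLocallyNoetherian π
  haveI : CompactSpace ↥P := QuasiCompact.compactSpace_of_compactSpace π
  { }

end Groth.Agent.H22Alg.PB
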