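import Groth.Agent.H22Alg.PB.Push

/-! # K₀ of a projective bundle. -/

set_option autoImplicit false
set_option linter.style.haveILetI false

universe u

open CategoryTheory CategoryTheory.Limits AlgebraicGeometry Opposite TopologicalSpace
open Groth.Agent.H10Coh.Stab
attribute [local instance] HasDerivedCategory.standard
attribute [local instance 10000] Groth.Agent.H10Coh.hasSheafifyAb Groth.Agent.H10Coh.hasWeakSheafifyAb Groth.Agent.H10Coh.hasExtAb Groth.Agent.H10Coh.enoughInjAb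
attribute [local instance] Groth.Agent.H22Alg.KExists.commRing

noncomputable section

namespace Groth.Agent.H22Alg.PB

open H16Derived.KFlat.Stalk

variable {X P : Scheme.{u}} {r : ℕ} {π : P ⟶ X} {O : ℤ → P.Modules}
  {E : X.Modules} {O1 : P.Modules} {q : (Scheme.Modules.pullback π).obj E ⟶ O1}

/-- The sum of the terms. -/
def Φ (Ψ : Fin (r + 1) → (SGA6.Kvb X →+ SGA6.Kvb P)) : (Fin (r + 1) → SGA6.Kvb X) →+ SGA6.Kvb P :=
  AddMonoidHom.mk' (fun a => ∑ i, Ψ i (a i)) fun a b => by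
    simp only [Pi.add_apply, map_add, Finset.sum_add_distrib]

theorem mem_range_of_lt {r : ℕ} (Ψ : Fin (r + 1) → (SGA6.Kvb X →+ SGA6.Kvb P)) (i : Fin (r + 1)) (a : SGA6.Kvb X) :
    Ψ i a ∈ (Φ Ψ).range := by
  classical
  refine ⟨Pi.single i a, ?_⟩
  show ∑ j, Ψ j (Pi.single (M := fun _ => SGA6.Kvb X) i a j) = _
  rw [Finset.sum_eq_single i (fun j _ hj => by rw [Pi.single_eq_of_ne hj, map_zero]) (by simp), Pi.single_eq_same]

theorem term_rel (hE : FlatMod.IsFinLocFreeOfRank (r + 1) E) (hPB : KRR.IsProjBundle π E O1 q)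
    (hO : IsTwistFamily O) (hO1 : Nonempty (O 1 ≅ O1))
    (Ψ : ℤ → (SGA6.Kvb X →+ SGA6.Kvb P))
    (hΨ : ∀ (d : ℤ) A, FlatMod.IsFinLocFree A →
      Ψ d (KRR.cl X A) = KRR.cl P (tw O d ((Scheme.Modules.pullback π).obj A)))
    (d : ℤ) (a : SGA6.Kvb X) :
    ∑ p ∈ Finset.range (r + 2), ((-1 : ℤ) ^ p) • Ψ (d - p) (KRR.cl X (KExists.extP p E) * a) = 0 := by
  have hE' := KPullLam.finLocFree_of_rank hE
  have hMf : ∀ k, FlatMod.IsFinLocFree (KExists.extP k E) := fun k => KExists.finLocFree_extP k hE'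
  let T : SGA6.Kvb X →+ SGA6.Kvb P := ∑ p ∈ Finset.range (r + 2),
    ((-1 : ℤ) ^ p) • (Ψ (d - p)).comp (AddMonoidHom.mulLeft (KRR.cl X (KExists.extP p E)))
  have hT : T = 0 := KModel.kvb_ext fun A hA => by
    simp only [T, AddMonoidHom.finsetSum_apply, AddMonoidHom.zero_apply, AddMonoidHom.smul_apply,
      AddMonoidHom.comp_apply, AddMonoidHom.coe_mulLeft]
    obtain ⟨T', δ, w, hex, hepi, hT'⟩ := exists_seq hE hPB hO hO1 (fun k => KExists.extP k E)
      (fun k => KExists.extP_spec k hE') hA d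
    have hMA : ∀ p, FlatMod.IsFinLocFree (CohB1.tensorMod (KExists.extP p E) A) := fun p =>
      isFinLocFree_tensor (hMf p) hA
    have hTf : ∀ p, FlatMod.IsFinLocFree (T' p) := fun p => isFinLocFree_of_iso (hT' p).some.symm
      (isFinLocFree_tensor (PnVan.finLocFree_of_inv (hO.inv _)) (isFinLocFree_pullback π (hMA p)))
    have hz : IsZero (T' (r + 1 + 1)) := by
      refine IsZero.of_iso ?_ (hT' _).some
      refine Functor.map_isZero ((DCoh.tensorBi (X := P)).obj (O (d - ((r + 1 + 1 : ℕ) : ℤ)))) ?_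
      haveI : (Scheme.Modules.pullback π).IsLeftAdjoint :=
        (Scheme.Modules.pullbackPushforwardAdjunction π).isLeftAdjoint
      refine (Scheme.Modules.pullback π).map_isZero (IsZero.of_iso ?_ (H10Coh.Tw.commIso _ A))
      exact Functor.map_isZero ((DCoh.tensorBi (X := X)).obj A)
        (isZero_extPow_of_gt hE (KExists.extP_spec (r + 1 + 1) hE') (Nat.lt_succ_self _))
    have hZ : ∀ p, FlatMod.IsFinLocFree (kernel (δ p)) := fun p => by
      induction p with
      | zero =>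
        exact isFinLocFree_left (S := ShortComplex.mk (kernel.ι (δ 0)) (δ 0) (kernel.condition _))
          { exact := ShortComplex.exact_kernel _ } (hTf 1) (hTf 0)
      | succ p ih =>
        refine isFinLocFree_left (S := ShortComplex.mk (kernel.ι (δ (p + 1))) (kernel.lift (δ p) (δ (p + 1)) (w p))
          (by rw [← cancel_mono (kernel.ι (δ p))]; simp)) ?_ (hTf (p + 2)) ih
        exact
          { exact := by
              refine ShortComplex.exact_of_f_is_kernel _ (KernelFork.IsLimit.ofι' _ _ fun {T'} k hk => ?_)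
              exact ⟨kernel.lift _ k (by
                have := hk =≫ kernel.ι (δ p)
                simpa using this), kernel.lift_ι _ _ _⟩
            mono_f := inferInstanceAs (Mono (kernel.ι (δ (p + 1))))
            epi_g := (ShortComplex.exact_iff_epi_kernel_lift _).1 (hex p) }
    have h := sum_eq_zero_desc (Pr := KRR.vbP P) (KReg.clSub_add (KRR.vbP P)) δ w hex (r + 1) hz hTf hZ
    refine Eq.trans (Finset.sum_congr rfl fun p _ => congrArg (_ • ·) ?_) h
    rw [KExists.cl_mul (hMf p) hA]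
    exact (hΨ _ _ (hMA p)).trans (KModel.cl_iso (hT' p).some (hTf p)).symm
  have h := DFunLike.congr_fun hT a
  simp only [T, AddMonoidHom.finsetSum_apply, AddMonoidHom.zero_apply, AddMonoidHom.smul_apply,
    AddMonoidHom.comp_apply, AddMonoidHom.coe_mulLeft] at h
  exact h

theorem term_mem (hE : FlatMod.IsFinLocFreeOfRank (r + 1) E) (hPB : KRR.IsProjBundle π E O1 q)
    (hO : IsTwistFamily O) (hO1 : Nonempty (O 1 ≅ O1))
    (Ψ : ℤ → (SGA6.Kvb X →+ SGA6.Kvb P))
    (hΨ : ∀ (d : ℤ) A, FlatMod.IsFinLocFree A →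
      Ψ d (KRR.cl X A) = KRR.cl P (tw O d ((Scheme.Modules.pullback π).obj A))) :
    ∀ (m : ℕ) (k : ℤ), -(m : ℤ) ≤ k → k ≤ r + m → ∀ a,
      Ψ k a ∈ (Φ fun i : Fin (r + 1) => Ψ ((i : ℕ) : ℤ)).range := by
  have hE' := KPullLam.finLocFree_of_rank hE
  intro m
  induction m with
  | zero =>
    intro k hk hk' a
    obtain ⟨n, rfl⟩ := Int.eq_ofNat_of_zero_le (show (0 : ℤ) ≤ k by omega)
    exact mem_range_of_lt (fun i : Fin (r + 1) => Ψ ((i : ℕ) : ℤ)) ⟨n, by omega⟩ a
  | succ m ih =>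
    intro k hk hk' a
    let R := (Φ fun i : Fin (r + 1) => Ψ ((i : ℕ) : ℤ)).range
    have hmem : ∀ (s : Finset ℕ) (d : ℤ) (b : SGA6.Kvb X), (∀ p ∈ s, -(m : ℤ) ≤ d - p ∧ d - p ≤ r + m) →
        ∑ p ∈ s, ((-1 : ℤ) ^ p) • Ψ (d - p) (KRR.cl X (KExists.extP p E) * b) ∈ R := fun s d b hs =>
      R.sum_mem fun p hp => R.zsmul_mem (ih (d - p) (hs p hp).1 (hs p hp).2 _) _
    by_cases hlow : k < -(m : ℤ)
    · obtain ⟨u, hu⟩ := isUnit_cl_top hE (KExists.extP_spec (r + 1) hE')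
      have h := term_rel hE hPB hO hO1 Ψ hΨ (k + (r + 1 : ℕ)) (↑u⁻¹ * a)
      rw [Finset.sum_range_succ, add_eq_zero_iff_eq_neg', ← mul_assoc, ← hu, Units.mul_inv, one_mul,
        add_sub_cancel_right] at h
      have h1 : ((-1 : ℤ) ^ (r + 1)) • Ψ k a ∈ R := h ▸ R.neg_mem (hmem _ _ _ fun p hp => by
        have := Finset.mem_range.1 hp
        omega)
      rcases neg_one_pow_eq_or ℤ (r + 1) with e | e <;> rw [e] at h1
      · rwa [one_smul] at h1
      · rw [neg_smul, one_smul] at h1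
        exact neg_mem_iff.1 h1
    by_cases hhigh : (r : ℤ) + m < k
    · have h := term_rel hE hPB hO hO1 Ψ hΨ k a
      rw [Finset.sum_range_succ' , add_eq_zero_iff_eq_neg'] at h
      have h0 : KRR.cl X (KExists.extP 0 E) = 1 :=
        (KExists.cl_extP hE' (KExists.isExtPow_zero E)).trans KExists.cl_structure
      rw [h0, one_mul, pow_zero, one_smul, Nat.cast_zero, sub_zero] at h
      rw [h]
      refine R.neg_mem (R.sum_mem fun p hp => R.zsmul_mem ?_ _)
      have := Finset.mem_range.1 hp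
      exact ih (k - ((p + 1 : ℕ) : ℤ)) (by omega) (by omega) _
    exact ih k (by omega) (by omega) a

namespace IsPn

theorem finLocFree_Fk [IsLocallyNoetherian X] (hπ : IsPn r π O) {F : P.Modules} (hF : FlatMod.IsFinLocFree F)
    (h : Reg π O F) : ∀ k, FlatMod.IsFinLocFree (Fk π O F k)
  | 0 => hF
  | k + 1 => by
    have ih := finLocFree_Fk hπ hF h k
    have hg := hπ.good (H8Props.FinLocFree.isQCoh_of_isFinLocFree _ hF) h k
    haveI := hπ.epi_counit hg.1 hg.2
    exact hπ.finLocFree_tw 1 (isFinLocFree_left (shortExact_ker (π := π) (Fk π O F k))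
      (isFinLocFree_pullback π (hπ.finLocFree_push ih fun i hi => hπ.van_self hg.1 hg.2 hi)) ih)

/-- The classes of the twists of the iterates lie in the image. -/
theorem cl_mem [IsLocallyNoetherian X] (hπ : IsPn r π O) (Ψ : ℤ → (SGA6.Kvb X →+ SGA6.Kvb P))
    (hΨ : ∀ (d : ℤ) A, FlatMod.IsFinLocFree A →
      Ψ d (KRR.cl X A) = KRR.cl P (PB.tw O d ((Scheme.Modules.pullback π).obj A)))
    (R : AddSubgroup (SGA6.Kvb P)) (hR : ∀ d a, Ψ d a ∈ R)
    {F : P.Modules} (hF : FlatMod.IsFinLocFree F) (h : Reg π O F) :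
    ∀ (j k : ℕ), r + 1 ≤ k + j → k ≤ r + 1 → ∀ d : ℤ, KRR.cl P (PB.tw O d (Fk π O F k)) ∈ R
  | 0, k, hk, hk', d => by
    obtain rfl : k = r + 1 := by omega
    rw [KModel.cl_isZero (Functor.map_isZero ((DCoh.tensorBi (X := P)).obj (O d))
      (hπ.isZero_Fk_top (H8Props.FinLocFree.isQCoh_of_isFinLocFree _ hF) h))]
    exact R.zero_mem
  | j + 1, k, hk, hk', d => by
    by_cases hkr : k = r + 1
    · exact cl_mem hπ Ψ hΨ R hR hF h j k (by omega) hk' d
    have hf := hπ.finLocFree_Fk hF h k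
    have hg := hπ.good (H8Props.FinLocFree.isQCoh_of_isFinLocFree _ hF) h k
    have hT := hπ.finLocFree_push hf fun i hi => hπ.van_self hg.1 hg.2 hi
    haveI := hπ.epi_counit hg.1 hg.2
    have hS := shortExact_tw hπ.tw d (shortExact_ker (π := π) (Fk π O F k))
    have hker := isFinLocFree_left (shortExact_ker (π := π) (Fk π O F k)) (isFinLocFree_pullback π hT) hf
    have h1 : KRR.cl P (PB.tw O d (PP π (Fk π O F k))) =
        KRR.cl P (PB.tw O d (kernel (ε π (Fk π O F k)))) + KRR.cl P (PB.tw O d (Fk π O F k)) :=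
      KModel.cl_add hS (hπ.finLocFree_tw d hker) (hπ.finLocFree_tw d (isFinLocFree_pullback π hT))
        (hπ.finLocFree_tw d hf)
    rw [← hΨ d _ hT, eq_comm, ← eq_sub_iff_add_eq'] at h1
    rw [h1]
    refine R.sub_mem (hR d _) ?_
    obtain ⟨e⟩ := nonempty_tw_tw hπ.tw (d - 1) 1 d (by ring) (kernel (ε π (Fk π O F k)))
    rw [← KModel.cl_iso (X := P) e (hπ.finLocFree_tw (d - 1) (hπ.finLocFree_tw 1 hker))]
    exact cl_mem hπ Ψ hΨ R hR hF h j (k + 1) (by omega) (by omega) (d - 1)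

end IsPn

/-- Generation. -/
theorem surjective [IsNoetherian X] (hE : FlatMod.IsFinLocFreeOfRank (r + 1) E) (hPB : KRR.IsProjBundle π E O1 q)
    (hπ : IsPn r π O) (hO1 : Nonempty (O 1 ≅ O1))
    (Ψ : ℤ → (SGA6.Kvb X →+ SGA6.Kvb P))
    (hΨ : ∀ (d : ℤ) A, FlatMod.IsFinLocFree A →
      Ψ d (KRR.cl X A) = KRR.cl P (tw O d ((Scheme.Modules.pullback π).obj A))) :
    Function.Surjective (Φ fun i : Fin (r + 1) => Ψ ((i : ℕ) : ℤ)) := by
  let R := (Φ fun i : Fin (r + 1) => Ψ ((i : ℕ) : ℤ)).range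
  have hR : ∀ d a, Ψ d a ∈ R := fun d a => term_mem hE hPB hπ.tw hO1 Ψ hΨ d.natAbs d (by omega) (by omega) a
  have key : ∀ F, FlatMod.IsFinLocFree F → KRR.cl P F ∈ R := fun F hF => by
    haveI := hπ.isProper
    obtain ⟨m, hm⟩ := hπ.exists_reg_twist (isCoh_of_isFinLocFree hF)
    have h := hπ.cl_mem Ψ hΨ R hR (hπ.finLocFree_tw (m : ℤ) hF) (hm m le_rfl) (r + 1) 0 (by omega) (by omega) (-(m : ℤ))
    obtain ⟨e⟩ := nonempty_tw_tw hπ.tw (-(m : ℤ)) (m : ℤ) 0 (by ring) F
    obtain ⟨z⟩ := nonempty_tw_zero hπ.tw F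
    rw [← KModel.cl_iso (e ≪≫ z) (hπ.finLocFree_tw _ (hπ.finLocFree_tw _ hF))]
    exact h
  intro x
  have hx : ((QuotientAddGroup.mk' R).comp (AddMonoidHom.id _)) x = 0 := by
    have : (QuotientAddGroup.mk' R).comp (AddMonoidHom.id (SGA6.Kvb P)) = 0 := KModel.kvb_ext fun F hF =>
      (QuotientAddGroup.eq_zero_iff _).2 (key F hF)
    exact DFunLike.congr_fun this x
  exact (QuotientAddGroup.eq_zero_iff _).1 hx

/-- The structure of K₀ of a projective bundle. -/
theorem exists_bijective [IsNoetherian X] (hE : FlatMod.IsFinLocFreeOfRank (r + 1) E)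
    (hPB : KRR.IsProjBundle π E O1 q) :
    ∃ (O : ℤ → P.Modules) (_ : IsTwistFamily O) (_ : Nonempty (O 1 ≅ O1))
      (Ψ : ℤ → (SGA6.Kvb X →+ SGA6.Kvb P)),
      (∀ (d : ℤ) A, FlatMod.IsFinLocFree A →
        Ψ d (KRR.cl X A) = KRR.cl P (tw O d ((Scheme.Modules.pullback π).obj A))) ∧
      Function.Bijective (Φ fun i : Fin (r + 1) => Ψ ((i : ℕ) : ℤ)) := by
  have hL := isInvertible_of_rank_one hPB.invertible
  have hπ := isPn_of_isProjBundle hE hPB
  have hO1 := nonempty_pw_one hL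
  choose Ψ hΨ using fun d => exists_term π hπ.tw d
  refine ⟨pw hL, hπ.tw, hO1, Ψ, hΨ, ⟨?_, surjective hE hPB hπ hO1 Ψ hΨ⟩⟩
  refine (injective_iff_map_eq_zero _).2 fun a ha => ?_
  exact injective hE hPB hπ hO1 (fun i => Ψ ((i : ℕ) : ℤ)) (fun i => hΨ _) a ha

end Groth.Agent.H22Alg.PB
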