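import Groth.Agent.H22Alg.PB.Exists
import Groth.Agent.H22Alg.KAmple
import Groth.Agent.H22Alg.PB.Vanish
import Groth.Agent.H11Sym.BundleAmple
import Groth.Agent.H11Ample.RelComp
import Groth.Agent.H11Proj.ProjSpace
import Groth.Agent.H12AlgSp.DimFormula
import Groth.Agent.H19Grp.Dimension
import Mathlib.RingTheory.KrullDimension.Polynomial

/-! # Projective bundles: ampleness and the bound on the dimension. -/

set_option autoImplicit false
set_option linter.style.haveILetI false

universe u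

open CategoryTheory CategoryTheory.Limits AlgebraicGeometry Opposite TopologicalSpace
open Groth.Agent.H11Tilde Groth.Agent.H11Ample
attribute [local instance] HasDerivedCategory.standard

noncomputable section

namespace Groth.Agent.H22Alg.PB

theorem stalkDim_le_topDim {X : Scheme.{u}} (x : X) :
    ringKrullDim (X.presheaf.stalk x) ≤ topologicalKrullDim X := by
  rw [ringKrullDim_stalk_eq_coheight, H19Grp.topologicalKrullDim_eq_iSup_coheight]
  exact le_iSup (fun y : X => ((Order.coheight y : ℕ∞) : WithBot ℕ∞)) x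

theorem stalkDim_eq {X Y : Scheme.{u}} (f : X ⟶ Y) [IsOpenImmersion f] (x : X) :
    ringKrullDim (X.presheaf.stalk x) = ringKrullDim (Y.presheaf.stalk (f x)) :=
  (ringKrullDim_eq_of_ringEquiv (asIso (f.stalkMap x)).commRingCatIsoToRingEquiv).symm

/-- The local rings of projective space over a ring. -/
theorem stalkDim_projSpace_le {A : Type u} [CommRing A] [IsNoetherianRing A] (n : ℕ)
    (y : CohB1.ProjSpace n A) :
    ringKrullDim ((CohB1.ProjSpace n A).presheaf.stalk y) ≤ ringKrullDim A + n := by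
  obtain ⟨i, hi⟩ := Opens.mem_iSup.1 ((H11Proj.ProjSpace.iSup_basicOpen n A).ge (Opens.mem_top y))
  let e := Proj.basicOpenIsoSpec (CohB1.polyGrading n A) _ (H11Proj.ProjSpace.X_mem n A i) one_pos
  let j := e.inv ≫ (Proj.basicOpen (CohB1.polyGrading n A) (MvPolynomial.X i : MvPolynomial (Fin (n + 1)) A)).ι
  let z := e.hom ⟨y, hi⟩
  have hz : j z = y := by
    show ((e.hom ≫ e.inv) ≫ (Proj.basicOpen _ _).ι) ⟨y, hi⟩ = y
    rw [e.hom_inv_id, Category.id_comp]
    rfl
  refine le_trans (le_of_eq ((congrArg (fun w => ringKrullDim ((CohB1.ProjSpace n A).presheaf.stalk w)) hz).symm.trans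
    (stalkDim_eq j z).symm)) ?_
  refine (stalkDim_le_topDim z).trans ?_
  refine le_trans (PrimeSpectrum.topologicalKrullDim_eq_ringKrullDim
    (R := HomogeneousLocalization.Away (CohB1.polyGrading n A) (MvPolynomial.X i : MvPolynomial (Fin (n + 1)) A))).le ?_
  have hsurj : Function.Surjective (H11Proj.ProjSpace.chartMap n A i) :=
    (H11Proj.ProjSpace.chartMap_bijective n A i).2
  refine (ringKrullDim_le_of_surjective _ hsurj).trans ?_
  rw [MvPolynomial.ringKrullDim_of_isNoetherianRing, Nat.card_eq_fintype_card, Fintype.card_subtype_compl,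
    Fintype.card_fin, Fintype.card_subtype_eq, Nat.add_sub_cancel]

theorem ringKrullDim_le_topDim {X : Scheme.{u}} {W : X.Opens} (hW : IsAffineOpen W) :
    ringKrullDim Γ(X, W) ≤ topologicalKrullDim X :=
  (PrimeSpectrum.topologicalKrullDim_eq_ringKrullDim (R := Γ(X, W))).symm.trans_le
    (hW.fromSpec.isOpenEmbedding.isEmbedding.isInducing.topologicalKrullDim_le)

/-- The dimension of a projective space bundle. -/
theorem IsPn.topologicalKrullDim_le {X P : Scheme.{u}} [IsLocallyNoetherian X] {r : ℕ} {π : P ⟶ X}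
    {O : ℤ → P.Modules} (hπ : IsPn r π O) {d : ℕ} (hd : topologicalKrullDim X ≤ d) :
    topologicalKrullDim P ≤ ((d + r : ℕ) : WithBot ℕ∞) := by
  refine H12AlgSp.topologicalKrullDim_le_of_stalks _ fun z => ?_
  obtain ⟨V, c, hV, hzV, -, hVc⟩ := hπ.exists_affine_nhd (π z) ⊤ trivial
  let W := c.U.ι ⁻¹ᵁ V
  have hW : IsAffineOpen W := c.isAffineOpen_preimage hV hVc
  haveI : IsNoetherianRing Γ((↑c.U : Scheme.{u}), W) := IsLocallyNoetherian.component_noetherian ⟨W, hW⟩
  obtain ⟨a, _, -, -⟩ := exists_affine_iso r Γ((↑c.U : Scheme.{u}), W)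
  haveI : IsOpenImmersion (KRR.projSpaceMap r hW.fromSpec) :=
    MorphismProperty.of_isPullback (P := @IsOpenImmersion) (KBaseChangeCl.isPullback_map hW.fromSpec).flip inferInstance
  obtain ⟨z₁, hz₁⟩ : z ∈ Set.range c.j := by
    rw [← Scheme.Hom.coe_opensRange, c.range]
    exact hVc hzV
  have hz₂ : KRR.pr r (↑c.U : Scheme.{u}) z₁ ∈ Set.range hW.fromSpec := by
    rw [hW.range_fromSpec]
    show c.U.ι (KRR.pr r (↑c.U : Scheme.{u}) z₁) ∈ V
    rw [← Scheme.Hom.comp_apply, ← c.w, Scheme.Hom.comp_apply, hz₁]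
    exact hzV
  obtain ⟨z₂, hz₂⟩ : z₁ ∈ Set.range (KRR.projSpaceMap r hW.fromSpec) := by
    have h := KBaseChangeCl.isPullback_map (n := r) hW.fromSpec
    rw [show KRR.projSpaceMap r hW.fromSpec = h.isoPullback.hom ≫ pullback.fst _ _ from (h.isoPullback_hom_fst).symm,
      ← Scheme.Hom.coe_opensRange, Scheme.Hom.opensRange_comp_of_isIso, Scheme.Hom.coe_opensRange,
      Scheme.Pullback.range_fst]
    exact hz₂
  obtain ⟨z₃, hz₃⟩ : z₂ ∈ Set.range a := (asIso a).hom.homeomorph.surjective z₂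
  rw [← hz₁, ← stalkDim_eq c.j, ← hz₂, ← stalkDim_eq, ← hz₃]
  refine le_trans (le_of_eq (stalkDim_eq a z₃).symm) ?_
  refine (stalkDim_projSpace_le r z₃).trans ?_
  rw [Nat.cast_add]
  exact add_le_add ((ringKrullDim_le_topDim hW).trans
    ((c.U.ι.isOpenEmbedding.isEmbedding.isInducing.topologicalKrullDim_le).trans hd)) le_rfl

/-- Projective bundles over a scheme with an ample module have one. -/
theorem exists_isProjBundle_ample {X : Scheme.{u}} {L : X.Modules} (hL : CohB1.IsAmple L) {r : ℕ}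
    {E : X.Modules} (hE : FlatMod.IsFinLocFreeOfRank (r + 1) E) :
    ∃ (P : Scheme.{u}) (π : P ⟶ X) (O1 : P.Modules) (q : (Scheme.Modules.pullback π).obj E ⟶ O1),
      KRR.IsProjBundle π E O1 q ∧ ∃ A : P.Modules, CohB1.IsAmple A := by
  have hq : Coh.IsQCoh E := H8Props.FinLocFree.isQCoh_of_isFinLocFree _ (KModel.finLocFree_of_rank hE)
  obtain ⟨𝒯, j, hT⟩ := H11Sym.exists_isGrSymAlg E hq
  obtain ⟨P, p, chart, hP⟩ := H11Proj.exists_isRelProj 𝒯
  obtain ⟨O1, lam, hO⟩ := H11Tilde.exists_isRelTwist hP 1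
  obtain ⟨φ, hφ⟩ := H11Sym.exists_canon hq hT hP hO
  have hPB : KRR.IsProjBundle p E O1 (((Scheme.Modules.pullbackPushforwardAdjunction p).homEquiv E O1).symm φ) :=
    ⟨rank_one_of_isInvertible (H11Sym.isInvertible_twist_one hq hT hP hO),
      H11Sym.epi_homEquiv_symm_of_spans (H11Sym.spans_of_eq_ks hq hT hO hφ), fun T g M hM s hs =>
        H11Sym.existsUnique_toBundle hq hT hP hO hφ g M (isInvertible_of_rank_one hM) s hs⟩
  refine ⟨P, p, O1, _, hPB, ?_⟩
  haveI := (isPn_of_isProjBundle hE hPB).isProper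
  have hva : RelProj.IsRelVeryAmple p O1 :=
    ⟨E, hq, 𝒯, j, hT, P, p, chart, hP, O1, lam, hO, 𝟙 P, inferInstance, Category.id_comp p,
      ⟨((Scheme.Modules.pullbackId P).app O1).symm⟩⟩
  obtain ⟨n₀, -, hn⟩ := H11Ample.eventually_isAmple_tensor_pullback p (H11Sym.isRelAmple_of_isRelVeryAmple hva) hL
  exact ⟨_, hn n₀ le_rfl⟩

end Groth.Agent.H22Alg.PB
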