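import Groth.Agent.H22Alg.PB.Exists
import Groth.Agent.H22Alg.KExists
import Groth.Agent.H22Alg.LamExtFil
import Groth.Agent.S3788
import Groth.Agent.S3789

/-! # The splitting principle for `K(X)`: projective bundles, and the filtration on `K(P(E))`. -/

set_option autoImplicit false
set_option linter.style.haveILetI false

universe w v u

open CategoryTheory CategoryTheory.Limits AlgebraicGeometry LambdaRing
attribute [local instance] HasDerivedCategory.standard

noncomputable section

namespace Groth.Agent.H22Alg.PB.Split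

section Lambda

variable {K : Type v} [CommRing K] [LambdaOps K] {A : Type v} [CommRing A] [LambdaOps A]
  {P : PosStructure K} {Q : PosStructure A}

/-- A homomorphism respecting augmentations respects the γ-filtrations. -/
theorem mem_gamma {f : A →+* K} (hf : IsLambdaHom f) (ha : ∀ x, P.aug (f x) = Q.aug x) {k : ℕ} {x : A}
    (hx : x ∈ gammaFiltration Q k) : f x ∈ gammaFiltration P k := by
  rw [H27Lambda.gammaFiltration_eq] at hx ⊢
  induction hx using Submodule.span_induction with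
  | mem y hy =>
    obtain ⟨l, h1, h2, rfl⟩ := hy
    refine Ideal.subset_span ⟨l.map fun p => (p.1, f p.2), ?_, ?_, ?_⟩
    · intro p hp
      obtain ⟨q, hq, rfl⟩ := List.mem_map.1 hp
      show P.aug (f q.2) = 0
      rw [ha]
      exact h1 q hq
    · rw [List.map_map]; exact h2
    · rw [map_list_prod, List.map_map, List.map_map]
      exact congrArg List.prod (List.map_congr_left fun p _ => H27Lambda.map_gamma hf _ _)
  | zero => rw [map_zero]; exact zero_mem _
  | add a b _ _ iha ihb => rw [map_add]; exact add_mem iha ihb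
  | smul s a _ iha => rw [smul_eq_mul, map_mul]; exact Ideal.mul_mem_left _ _ iha

/-- λ-operations transported along an isomorphism. -/
@[reducible] def opsOf {B : Type v} [CommRing B] (e : B ≃+* K) : LambdaOps B where
  lam i x := e.symm (LambdaOps.lam i (e x))
  lam_zero x := by rw [LambdaOps.lam_zero, map_one]
  lam_one x := by rw [LambdaOps.lam_one, e.symm_apply_apply]
  lam_add k x y := by
    rw [map_add, LambdaOps.lam_add, map_sum]
    exact Finset.sum_congr rfl fun i _ => map_mul _ _ _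

/-- Positive structure transported along an isomorphism. -/
def posOf {B : Type v} [CommRing B] (e : B ≃+* K) (P : PosStructure K) : @PosStructure B _ (opsOf e) :=
  letI := opsOf e
  { aug := P.aug.comp e.toRingHom
    aug_surjective := P.aug_surjective.comp e.surjective
    pos := e ⁻¹' P.pos
    add_mem := fun x y hx hy => show e (x + y) ∈ P.pos by rw [map_add]; exact P.add_mem _ _ hx hy
    mul_mem := fun x y hx hy => show e (x * y) ∈ P.pos by rw [map_mul]; exact P.mul_mem _ _ hx hy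
    natCast_mem := fun n hn => show e (n : B) ∈ P.pos by rw [map_natCast]; exact P.natCast_mem n hn
    exists_sub := fun x => by
      obtain ⟨a, b, ha, hb, h⟩ := P.exists_sub (e x)
      refine ⟨e.symm a, e.symm b, ?_, ?_, ?_⟩
      · show e (e.symm a) ∈ P.pos
        rwa [e.apply_symm_apply]
      · show e (e.symm b) ∈ P.pos
        rwa [e.apply_symm_apply]
      · rw [← map_sub, ← h, e.symm_apply_apply]
    aug_pos := fun x hx => P.aug_pos _ hx
    lam_eq_zero := fun x hx i hi => show e.symm (LambdaOps.lam i (e x)) = 0 by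
      rw [P.lam_eq_zero _ hx i hi, map_zero]
    isUnit_lam := fun x hx => show IsUnit (e.symm (LambdaOps.lam (P.aug (e x)).toNat (e x))) from
      (P.isUnit_lam _ hx).map e.symm }

theorem hasSplitting_posOf {B : Type v} [CommRing B] (e : B ≃+* K) (h : HasSplitting K P) :
    @HasSplitting B _ (opsOf e) (posOf e P) := by
  letI := opsOf e
  obtain ⟨C, hKC, hC⟩ := h
  refine ⟨insert ⟨B, posOf e P⟩ C, Set.mem_insert _ _, fun L hL x hx => ?_⟩
  rcases hL with rfl | hL
  · obtain ⟨L', hL', f, hf, s, hs, hsum⟩ := hC _ hKC (e x) hx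
    refine ⟨L', Set.mem_insert_of_mem _ hL', f.comp e.toRingHom, ?_, s, hs, hsum⟩
    refine ⟨fun i y => ?_, hf.injective.comp e.injective, fun y => hf.aug_comp _, fun y hy => hf.pos_subset _ hy⟩
    show f (e (e.symm (LambdaOps.lam i (e y)))) = LambdaOps.lam i (f (e y))
    rw [e.apply_symm_apply]
    exact hf.isLambdaHom i _
  · obtain ⟨L', hL', f, hf, s, hs, hsum⟩ := hC L hL x hx
    exact ⟨L', Set.mem_insert_of_mem _ hL', f, hf, s, hs, hsum⟩

end Lambda

section Elementary

variable {K : Type v} [CommRing K] [LambdaOps K] {P : PosStructure K}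
  {A : Type v} [CommRing A] [LambdaOps A] {Q : PosStructure A}

/-- If `A` is free over `K` on `1, ℓ, …, ℓ^r` with the tautological relation of `e`, the γ-filtration
of `A` induces that of `K`. -/
theorem comap_gammaFiltration {g : K →+* A} (hg : IsExtension P Q g) (hA : HasSplitting A Q)
    {e : K} (he : e ∈ P.pos) {r : ℕ} (hr : P.aug e = r + 1) {l : A} (hl : Q.IsLine l)
    (hrel : ∑ i ∈ Finset.range (r + 2), (-1 : A) ^ i * g (LambdaOps.lam i e) * l ^ (r + 1 - i) = 0)
    (hbij : Function.Bijective (fun a : Fin (r + 1) → K => ∑ i : Fin (r + 1), g (a i) * l ^ (i : ℕ)))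
    {k : ℕ} {x : K} (hx : g x ∈ gammaFiltration Q k) : x ∈ gammaFiltration P k := by
  have hm : (P.aug e).toNat = r + 1 := by omega
  haveI := LamCore.nontrivial_of_pos P
  have hp := LamCore.monic_extPoly (P := P) (e := e) hm
  have hroot : Polynomial.eval₂ g l (KRR.extPoly P e) = 0 := by
    rw [LamCore.extPoly_eq hm, Polynomial.eval₂_finsetSum]
    refine (Finset.sum_congr rfl fun i _ => ?_).trans hrel
    rw [Polynomial.eval₂_mul, Polynomial.eval₂_C, Polynomial.eval₂_pow, Polynomial.eval₂_X]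
    simp only [map_mul, map_pow, map_neg, map_one]
  let ψ : AdjoinRoot (KRR.extPoly P e) →+* A := AdjoinRoot.lift g l hroot
  have hψ : ∀ q : Polynomial K, q.degree < (r + 1 : ℕ) →
      ψ (AdjoinRoot.mk _ q) = ∑ i : Fin (r + 1), g (q.coeff i) * l ^ (i : ℕ) := fun q hq => by
    rw [AdjoinRoot.lift_mk, Fin.sum_univ_eq_sum_range (fun i => g (q.coeff i) * l ^ i)]
    rcases eq_or_ne q 0 with rfl | h0
    · simp
    · exact Polynomial.eval₂_eq_sum_range' g ((Polynomial.natDegree_lt_iff_degree_lt h0).2 hq) l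
  have hψb : Function.Bijective ψ := by
    refine ⟨(injective_iff_map_eq_zero ψ).2 fun z hz => ?_, fun y => ?_⟩
    · obtain ⟨q, hq, rfl⟩ := LamCore.exists_rep hm z
      rw [hψ q hq] at hz
      have h := hbij.1 (a₁ := fun i : Fin (r + 1) => q.coeff i) (a₂ := 0) (by simpa using hz)
      have hq0 : q = 0 := Polynomial.ext fun i => by
        rw [Polynomial.coeff_zero]
        rcases lt_or_ge i (r + 1) with hi | hi
        · exact congrFun h ⟨i, hi⟩
        · exact Polynomial.coeff_eq_zero_of_degree_lt (lt_of_lt_of_le hq (by exact_mod_cast hi))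
      rw [hq0, map_zero]
    · obtain ⟨a, rfl⟩ := hbij.2 y
      refine ⟨∑ i : Fin (r + 1), AdjoinRoot.of _ (a i) * AdjoinRoot.root _ ^ (i : ℕ), ?_⟩
      simp only [ψ, map_sum, map_mul, map_pow, AdjoinRoot.lift_of, AdjoinRoot.lift_root]
  let ψe : AdjoinRoot (KRR.extPoly P e) ≃+* A := RingEquiv.ofBijective ψ hψb
  have hψof : ∀ a, ψe (AdjoinRoot.of _ a) = g a := fun a => AdjoinRoot.lift_of hroot
  letI := opsOf ψe
  let Pe := posOf ψe Q
  have hext : IsExtension P Pe (AdjoinRoot.of (KRR.extPoly P e)) := by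
    refine ⟨fun i y => ?_, fun a b hab => hg.injective (by rw [← hψof, ← hψof, hab]), fun y => ?_, fun y hy => ?_⟩
    · show _ = ψe.symm (LambdaOps.lam i (ψe (AdjoinRoot.of _ y)))
      rw [hψof, ← hg.isLambdaHom i y, ← hψof, ψe.symm_apply_apply]
    · show Q.aug (ψe (AdjoinRoot.of _ y)) = _
      rw [hψof, hg.aug_comp]
    · show ψe (AdjoinRoot.of _ y) ∈ Q.pos
      rw [hψof]
      exact hg.pos_subset y hy
  have hlr : ψe (AdjoinRoot.root (KRR.extPoly P e)) = l := AdjoinRoot.lift_root hroot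
  have hline : Pe.IsLine (AdjoinRoot.root (KRR.extPoly P e)) := by
    refine ⟨?_, ?_⟩
    · show ψe (AdjoinRoot.root _) ∈ Q.pos
      rw [hlr]
      exact hl.1
    · show Q.aug (ψe (AdjoinRoot.root _)) = 1
      rw [hlr]
      exact hl.2
  have hx' : AdjoinRoot.of (KRR.extPoly P e) x ∈ gammaFiltration Pe k := by
    have h := mem_gamma (P := Pe) (Q := Q) (f := ψe.symm.toRingHom)
      (fun i y => show ψe.symm (LambdaOps.lam i y) = ψe.symm (LambdaOps.lam i (ψe (ψe.symm y))) by
        rw [ψe.apply_symm_apply])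
      (fun y => show Q.aug (ψe (ψe.symm y)) = _ by rw [ψe.apply_symm_apply]) hx
    rwa [show ψe.symm.toRingHom (g x) = AdjoinRoot.of (KRR.extPoly P e) x by
      rw [← hψof]; exact ψe.symm_apply_apply _] at h
  rw [LamExtFil.gammaFiltration_eq_G Pe hext hline (hasSplitting_posOf ψe hA) he hm] at hx'
  let S : AddSubgroup (AdjoinRoot (KRR.extPoly P e)) :=
    { carrier := {z | ∃ q : Polynomial K, q.degree < (r + 1 : ℕ) ∧ AdjoinRoot.mk _ q = z ∧
        q.eval 1 ∈ gammaFiltration P k}
      zero_mem' := ⟨0, by simp only [Polynomial.degree_zero]; exact WithBot.bot_lt_coe _, map_zero _, by simp⟩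
      add_mem' := by
        rintro _ _ ⟨q, hq, rfl, hq1⟩ ⟨q', hq', rfl, hq1'⟩
        exact ⟨q + q', (Polynomial.degree_add_le _ _).trans_lt (max_lt hq hq'), map_add _ _ _,
          by rw [Polynomial.eval_add]; exact add_mem hq1 hq1'⟩
      neg_mem' := by
        rintro _ ⟨q, hq, rfl, hq1⟩
        exact ⟨-q, by rwa [Polynomial.degree_neg], map_neg _ _, by rw [Polynomial.eval_neg]; exact neg_mem hq1⟩ }
  have hle : LamExtFil.G P e r k ≤ S := by
    refine iSup₂_le fun i hi => ?_
    rintro _ ⟨c, hc, rfl⟩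
    have hir : i ≤ r := Nat.lt_succ_iff.1 (Finset.mem_range.1 hi)
    refine ⟨Polynomial.C c * (Polynomial.X - 1) ^ i, ?_, ?_, ?_⟩
    · refine (Polynomial.degree_mul_le _ _).trans_lt (lt_of_le_of_lt (add_le_add Polynomial.degree_C_le
        (Polynomial.degree_pow_le_of_le (a := 1) i ((Polynomial.degree_sub_le _ _).trans (max_le Polynomial.degree_X_le
          (Polynomial.degree_one_le.trans (by exact_mod_cast zero_le_one)))))) ?_)
      rw [zero_add, mul_one]
      exact_mod_cast Nat.lt_succ_of_le hir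
    · simp [map_mul, map_pow, map_sub, map_one]
    · rcases Nat.eq_zero_or_pos i with rfl | hi0
      · simpa using hc
      · simp [zero_pow hi0.ne']
  obtain ⟨q, hq, hqx, hq1⟩ := hle hx'
  have hqC : q = Polynomial.C x := by
    have h : AdjoinRoot.mk (KRR.extPoly P e) (q - Polynomial.C x) = 0 := by simp [hqx]
    rw [AdjoinRoot.mk_eq_zero] at h
    by_contra hne
    refine hp.not_dvd_of_degree_lt (sub_ne_zero.2 hne) ?_ h
    rw [Polynomial.degree_eq_natDegree hp.ne_zero, LamCore.natDegree_extPoly hm]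
    exact (Polynomial.degree_sub_le _ _).trans_lt (max_lt hq
      (Polynomial.degree_C_le.trans_lt (by exact_mod_cast Nat.succ_pos r)))
  rw [hqC, Polynomial.eval_C] at hq1
  exact hq1

end Elementary

section Geometry

variable {X Y Z : Scheme.{u}}

/-- The pull-back on models. -/
theorem exists_pull (f : Y ⟶ X) {KX : Type v} [CommRing KX] [LambdaOps KX] {PX : PosStructure KX}
    {φX : SGA6.Kvb X →+ KX} (hKX : KRR.IsModel X KX PX φX) {KY : Type w} [CommRing KY]
    (φY : SGA6.Kvb Y →+ KY) : ∃ g : KX →+ KY, KRR.IsPull f φX φY g := by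
  obtain ⟨G, hG⟩ := KModel.exists_lift (fun E => φY (KRR.cl Y ((Scheme.Modules.pullback f).obj E)))
    fun S hS h₁ h₂ h₃ => (congrArg φY (KModel.cl_add (KModel.shortExact_pullback f hS h₃)
      (H16Derived.KFlat.Stalk.isFinLocFree_pullback f h₁) (H16Derived.KFlat.Stalk.isFinLocFree_pullback f h₂)
      (H16Derived.KFlat.Stalk.isFinLocFree_pullback f h₃))).trans (map_add _ _ _)
  let φe := AddEquiv.ofBijective φX hKX.bijective
  refine ⟨G.comp φe.symm.toAddMonoidHom, fun E hE => ?_⟩
  show G (φe.symm (φe (KRR.cl X E))) = _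
  rw [φe.symm_apply_apply, hG E hE]

theorem isPull_comp {KX : Type v} [CommRing KX] {KY : Type w} [CommRing KY] {KZ : Type w} [CommRing KZ]
    {φX : SGA6.Kvb X →+ KX} {φY : SGA6.Kvb Y →+ KY} {φZ : SGA6.Kvb Z →+ KZ}
    {f : Y ⟶ X} {h : Z ⟶ Y} {g : KX →+ KY} {g' : KY →+ KZ}
    (hg : KRR.IsPull f φX φY g) (hg' : KRR.IsPull h φY φZ g') :
    KRR.IsPull (h ≫ f) φX φZ (g'.comp g) := fun E hE => by
  have h1 := H16Derived.KFlat.Stalk.isFinLocFree_pullback f hE
  rw [AddMonoidHom.comp_apply, hg E hE, hg' _ h1]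
  exact congrArg φZ (KModel.cl_iso ((Scheme.Modules.pullbackComp h f).app E)
    (H16Derived.KFlat.Stalk.isFinLocFree_pullback h h1))

variable [IsNoetherian X] [ConnectedSpace ↥X]
  {K : Type (u + 1)} [CommRing K] [LambdaOps K] {P : PosStructure K} {φ : SGA6.Kvb X →+ K}

/-- One step: split off the tautological line bundle on `P(E)`. -/
theorem step (hK : KRR.IsModel X K P φ) {r : ℕ} {E : X.Modules} (hE : FlatMod.IsFinLocFreeOfRank (r + 1) E) :
    ∃ (Y : Scheme.{u}) (_ : IsNoetherian Y) (_ : ConnectedSpace ↥Y) (f : Y ⟶ X)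
      (K' : Type (u + 1)) (_ : CommRing K') (_ : LambdaOps K') (P' : PosStructure K')
      (φ' : SGA6.Kvb Y →+ K') (_ : KRR.IsModel Y K' P' φ') (g : K →+ K') (_ : KRR.IsPull f φ φ' g)
      (M O1 : Y.Modules),
      FlatMod.IsFinLocFreeOfRank r M ∧ FlatMod.IsFinLocFreeOfRank 1 O1 ∧
      g (φ (KRR.cl X E)) = φ' (KRR.cl Y M) + φ' (KRR.cl Y O1) ∧ Function.Injective g ∧
      (HasSplitting K' P' → ∀ (k : ℕ) (x : K), g x ∈ gammaFiltration P' k → x ∈ gammaFiltration P k) := by
  have hE' := KModel.finLocFree_of_rank hE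
  obtain ⟨Y, π, O1, q, hPB⟩ := exists_isProjBundle E (H8Props.FinLocFree.isQCoh_of_isFinLocFree _ hE')
  haveI := hPB.epi
  have hπ := isPn_of_isProjBundle hE hPB
  haveI hYc := hπ.connectedSpace
  haveI hYn := hπ.isNoetherian
  obtain ⟨K', _, _, P', φ', hK'⟩ := KExists.exists_model (X := Y)
  obtain ⟨g, hg⟩ := exists_pull π hK φ'
  have hO := hPB.invertible
  have hO' := KModel.finLocFree_of_rank hO
  have hpE := H16Derived.KFlat.Stalk.isFinLocFree_pullback π hE'
  have hS : (ShortComplex.mk (kernel.ι q) q (kernel.condition q)).ShortExact :=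
    { exact := ShortComplex.exact_kernel q }
  have hM := H16Derived.KFlat.Stalk.isFinLocFree_left hS hpE hO'
  obtain ⟨m, hm⟩ := KModel.exists_rank hM
  have hadd : g (φ (KRR.cl X E)) = φ' (KRR.cl Y (kernel q)) + φ' (KRR.cl Y O1) := by
    rw [hg E hE', ← map_add]; exact congrArg φ' (KModel.cl_add hS hM hpE hO')
  have hmr : m = r := by
    have h := congrArg P'.aug hadd
    have h' : P'.aug (φ' (KRR.cl Y (kernel q))) = m := hK'.aug_cl m _ hm
    rw [map_add, h', hg E hE', hK'.aug_cl _ _ (KPullLam.finLocFreeOfRank_pullback π hE), hK'.aug_cl 1 _ hO] at h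
    omega
  have hrel := S3788.result X Y r E hE π O1 q hPB K P φ hK K' P' φ' hK' g hg
  have hbij := S3789.result X Y r E hE π O1 q hPB K P φ hK K' P' φ' hK' g hg
  have hinj : Function.Injective g := fun a b hab => by
    have h := hbij.1 (a₁ := fun i => if i = 0 then a else 0) (a₂ := fun i => if i = 0 then b else 0) (by
      simp [apply_ite g, ite_mul, Finset.sum_ite_eq', hab])
    simpa using congrFun h 0
  refine ⟨Y, hYn, hYc, π, K', _, _, P', φ', hK', g, hg, kernel q, O1, hmr ▸ hm, hO, hadd, hinj, fun hsp k x hx => ?_⟩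
  have hext : IsExtension P P' (KPullLam.ringHom hK' hK hg) :=
    ⟨KPullLam.isLambdaHom hK' hK hg, hinj, fun y => KPullLam.map_aug hK' hK hg y, fun _ he => KPullLam.map_pos hK' hK hg he⟩
  refine comap_gammaFiltration (l := φ' (KRR.cl Y O1)) hext hsp
    ((hK.mem_pos_iff _).2 ⟨r + 1, E, by omega, hE, rfl⟩)
    (by rw [hK.aug_cl _ _ hE]; push_cast; rfl) ?_ hrel hbij hx
  exact ⟨(hK'.mem_pos_iff _).2 ⟨1, O1, le_rfl, hO, rfl⟩, hK'.aug_cl 1 _ hO⟩

/-- The splitting principle, the statement on filtrations being conditional on the splitting property. -/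
theorem exists_split (m : ℕ) : ∀ {X : Scheme.{u}} [IsNoetherian X] [ConnectedSpace ↥X]
    {K : Type (u + 1)} [CommRing K] [LambdaOps K] {P : PosStructure K} {φ : SGA6.Kvb X →+ K},
    KRR.IsModel X K P φ → ∀ {E : X.Modules}, FlatMod.IsFinLocFreeOfRank m E →
    ∃ (Y : Scheme.{u}) (_ : IsNoetherian Y) (_ : ConnectedSpace ↥Y) (f : Y ⟶ X)
      (K' : Type (u + 1)) (_ : CommRing K') (_ : LambdaOps K') (P' : PosStructure K')
      (φ' : SGA6.Kvb Y →+ K') (_ : KRR.IsModel Y K' P' φ') (g : K →+ K') (_ : KRR.IsPull f φ φ' g),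
      Function.Injective g ∧
      ((∀ (Z : Scheme.{u}) [IsNoetherian Z] [ConnectedSpace ↥Z] (L : Type (u + 1)) [CommRing L] [LambdaOps L]
          (Q : PosStructure L) (ψ : SGA6.Kvb Z →+ L), KRR.IsModel Z L Q ψ → HasSplitting L Q) →
        ∀ (k : ℕ) (x : K), g x ∈ gammaFiltration P' k → x ∈ gammaFiltration P k) ∧
      ∃ L : Fin m → Y.Modules, (∀ j, FlatMod.IsFinLocFreeOfRank 1 (L j)) ∧
        g (φ (KRR.cl X E)) = ∑ j, φ' (KRR.cl Y (L j)) := by
  induction m with
  | zero =>
    intro X _ _ K _ _ P φ hK E hE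
    refine ⟨X, inferInstance, inferInstance, 𝟙 X, K, _, _, P, φ, hK, AddMonoidHom.id K, fun F hF => ?_,
      Function.injective_id, fun _ k x hx => hx, Fin.elim0, fun j => j.elim0, ?_⟩
    · exact congrArg φ (KModel.cl_iso ((Scheme.Modules.pullbackId X).app F).symm hF)
    · rw [Fin.sum_univ_zero, KModel.cl_isZero (PBRel.isZero_of_rank_zero hE), map_zero, map_zero]
  | succ r ih =>
    intro X _ _ K _ _ P φ hK E hE
    obtain ⟨Y, _, _, f, K₁, _, _, P₁, φ₁, hK₁, g₁, hg₁, M, O1, hM, hO, hsum, hinj, hfil⟩ := step hK hE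
    obtain ⟨Z, hZn, hZc, f', K', _, _, P', φ', hK', g', hg', hinj', hfil', L, hL, hsum'⟩ := ih hK₁ hM
    refine ⟨Z, hZn, hZc, f' ≫ f, K', _, _, P', φ', hK', g'.comp g₁, isPull_comp hg₁ hg', hinj'.comp hinj,
      fun hsp k x hx => hfil (hsp Y K₁ P₁ φ₁ hK₁) k x (hfil' hsp k _ hx),
      Fin.snoc L ((Scheme.Modules.pullback f').obj O1), fun j => ?_, ?_⟩
    · cases j using Fin.lastCases with
      | last => rw [Fin.snoc_last]; exact KPullLam.finLocFreeOfRank_pullback f' hO
      | cast i => rw [Fin.snoc_castSucc]; exact hL i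
    · rw [AddMonoidHom.comp_apply, hsum, map_add, hsum', hg' O1 (KModel.finLocFree_of_rank hO),
        Fin.sum_univ_castSucc]
      simp only [Fin.snoc_castSucc, Fin.snoc_last]

/-- Models of `K` of connected Noetherian schemes have the splitting property. -/
theorem hasSplitting (hK : KRR.IsModel X K P φ) : HasSplitting K P := by
  refine ⟨{L | ∃ (Z : Scheme.{u}) (_ : IsNoetherian Z) (_ : ConnectedSpace ↥Z)
    (ψ : SGA6.Kvb Z →+ L.carrier), KRR.IsModel Z L.carrier L.posStr ψ},
    ⟨X, inferInstance, inferInstance, φ, hK⟩, ?_⟩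
  rintro L ⟨Z, _, _, ψ, hL⟩ e he
  obtain ⟨m, E, -, hE, rfl⟩ := (hL.mem_pos_iff e).1 he
  obtain ⟨Y, hn, hc, f, K', _, _, P', φ', hK', g, hg, hinj, -, M, hM, hsum⟩ := exists_split m hL hE
  refine ⟨⟨K', P'⟩, ⟨Y, hn, hc, φ', hK'⟩, KPullLam.ringHom hK' hL hg,
    ⟨KPullLam.isLambdaHom hK' hL hg, hinj, fun y => KPullLam.map_aug hK' hL hg y, fun _ h => KPullLam.map_pos hK' hL hg h⟩,
    Finset.univ.val.map fun j => φ' (KRR.cl Y (M j)), fun v hv => ?_, hsum.symm⟩
  obtain ⟨j, -, rfl⟩ := Multiset.mem_map.1 hv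
  exact ⟨(hK'.mem_pos_iff _).2 ⟨1, M j, le_rfl, hM j, rfl⟩, hK'.aug_cl 1 _ (hM j)⟩

end Geometry

end Groth.Agent.H22Alg.PB.Split
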