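import Groth.Agent.H22Alg.PB.Reg
import Groth.Agent.H22Alg.Koszul
import Groth.Agent.H22Alg.ExtPowTwist
import Groth.Agent.H22Alg.ExtPowSES
import Groth.Agent.H22Alg.KExists

/-! # The Koszul sequence of the tautological quotient. -/

set_option autoImplicit false
set_option linter.style.haveILetI false

universe u w

open CategoryTheory CategoryTheory.Limits AlgebraicGeometry Opposite TopologicalSpace
open Groth.Agent.H10Coh.Stab
attribute [local instance] HasDerivedCategory.standard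

noncomputable section

namespace Groth.Agent.H22Alg.PB

open H16Derived.KFlat.Stalk

variable {X P : Scheme.{u}}

section Iso

variable {Z : Scheme.{u}}

/-- `A ⊗ (B ⊗ C) ≅ B ⊗ (A ⊗ C)`. -/
def leftComm (A B C : Z.Modules) :
    CohB1.tensorMod A (CohB1.tensorMod B C) ≅ CohB1.tensorMod B (CohB1.tensorMod A C) :=
  (H10Coh.Tw.assoc A B C).symm ≪≫ PicGrp.tensorModIso (H10Coh.Tw.commIso A B) (Iso.refl C) ≪≫
    H10Coh.Tw.assoc B A C

theorem isZero_of_rk_zero {M : Z.Modules} (hM : FlatMod.IsFinLocFree M) (h : ∀ x, KExists.rk x M = 0) : IsZero M := by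
  refine PBRel.isZero_of_rank_zero fun x => ?_
  obtain ⟨U, n, hx, ⟨e⟩⟩ := hM x
  obtain ⟨V, hV, hxV, hle⟩ := exists_isAffineOpen_mem_and_subset (x := x) (U := U) hx
  obtain ⟨b⟩ := H8Props.FinLocFree.exists_basis_of_chart M e hle
  obtain ⟨b'⟩ := ExtPowSum.exists_stalkBasis (H8Props.FinLocFree.isQCoh_of_isFinLocFree _ hM) hV b hxV
  have h1 := h x
  rw [KExists.rk, Module.finrank_eq_card_basis b', Fintype.card_fin] at h1
  subst h1
  exact ⟨U, hx, ⟨e⟩⟩

theorem isZero_extPow_of_gt {E M : Z.Modules} {n k : ℕ} (hE : FlatMod.IsFinLocFreeOfRank n E)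
    (hM : ExtPow.IsExtPow k E M) (hk : n < k) : IsZero M := by
  have hE' := KPullLam.finLocFree_of_rank hE
  refine isZero_of_rk_zero (ExtPowHom.finLocFree_of_isExtPow hE' hM) fun x => ?_
  rw [KExists.rk_extPow hE' hM, KExists.rk_of_rank hE, Nat.choose_eq_zero_of_lt hk]

theorem nonempty_tensorPow_neg {O : ℤ → Z.Modules} (hO : IsTwistFamily O) :
    ∀ p : ℕ, Nonempty (CohB1.tensorPow (O (-1)) p ≅ O (-(p : ℤ)))
  | 0 => ⟨hO.zero.some.symm⟩
  | k + 1 => by
    obtain ⟨b⟩ := nonempty_tensorPow_neg hO k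
    obtain ⟨c⟩ := hO.add (-(k : ℤ)) (-1)
    exact ⟨PicGrp.tensorModIso b (Iso.refl _) ≪≫ c ≪≫ eqToIso (congrArg O (by push_cast; ring))⟩

end Iso

section Sum

variable {C : Type*} [Category C] [Abelian C] {G : Type w} [AddCommGroup G] {Pr : C → Prop} {c : C → G}

/-- The alternating sum along an exact sequence `… ⟶ T 1 ⟶ T 0 ⟶ 0` with kernels in `Pr` vanishes. -/
theorem sum_eq_zero_desc (hc : KTelescope.Additive Pr c) {T : ℕ → C} (d : ∀ p, T (p + 1) ⟶ T p)
    (w : ∀ p, d (p + 1) ≫ d p = 0) (hex : ∀ p, (ShortComplex.mk (d (p + 1)) (d p) (w p)).Exact) [Epi (d 0)]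
    (n : ℕ) (hn : IsZero (T (n + 1))) (hT : ∀ p, Pr (T p)) (hZ : ∀ p, Pr (kernel (d p))) :
    ∑ p ∈ Finset.range (n + 1), ((-1 : ℤ) ^ p) • c (T p) = 0 := by
  have hS : ∀ p, (ShortComplex.mk (kernel.ι (d (p + 1))) (kernel.lift (d p) (d (p + 1)) (w p))
      (by rw [← cancel_mono (kernel.ι (d p))]; simp)).ShortExact := fun p =>
    { exact := by
        refine ShortComplex.exact_of_f_is_kernel _ (KernelFork.IsLimit.ofι' _ _ fun {T'} k hk => ?_)
        exact ⟨kernel.lift _ k (by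
          have := hk =≫ kernel.ι (d p)
          simpa using this), kernel.lift_ι _ _ _⟩
      mono_f := inferInstanceAs (Mono (kernel.ι (d (p + 1))))
      epi_g := (ShortComplex.exact_iff_epi_kernel_lift _).1 (hex p) }
  have h0 : c (T 1) = c (kernel (d 0)) + c (T 0) :=
    hc (ShortComplex.mk (kernel.ι (d 0)) (d 0) (kernel.condition _))
      { exact := ShortComplex.exact_kernel _ } (hZ 0) (hT 1) (hT 0)
  have h1 : ∀ p, c (T (p + 2)) = c (kernel (d (p + 1))) + c (kernel (d p)) := fun p =>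
    hc _ (hS p) (hZ (p + 1)) (hT (p + 2)) (hZ p)
  have h2 : ∀ k, ∑ p ∈ Finset.range (k + 2), ((-1 : ℤ) ^ p) • c (T p) =
      ((-1 : ℤ) ^ (k + 1)) • c (kernel (d k)) := fun k => by
    induction k with
    | zero =>
      rw [Finset.sum_range_succ, Finset.sum_range_one, h0]
      simp
    | succ k ih =>
      rw [Finset.sum_range_succ, ih, h1, smul_add, pow_succ (-1 : ℤ) (k + 1), mul_neg_one, neg_smul, neg_smul]
      abel
  have hz : IsZero (kernel (d n)) := IsZero.of_mono (kernel.ι (d n)) hn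
  have h3 := h2 n
  rw [Finset.sum_range_succ, KTelescope.map_isZero hc hn (hT (n + 1)), smul_zero, add_zero,
    KTelescope.map_isZero hc hz (hZ n), smul_zero] at h3
  exact h3

end Sum

variable {r : ℕ} {π : P ⟶ X} {E : X.Modules} {O1 : P.Modules} {q : (Scheme.Modules.pullback π).obj E ⟶ O1}

/-- The data of the sequence. -/
theorem exists_seq (hE : FlatMod.IsFinLocFreeOfRank (r + 1) E) (hPB : KRR.IsProjBundle π E O1 q)
    {O : ℤ → P.Modules} (hO : IsTwistFamily O) (hO1 : Nonempty (O 1 ≅ O1))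
    (M : ℕ → X.Modules) (hM : ∀ k, ExtPow.IsExtPow k E (M k))
    {A : X.Modules} (hA : FlatMod.IsFinLocFree A) (d : ℤ) :
    ∃ (T : ℕ → P.Modules) (δ : ∀ p, T (p + 1) ⟶ T p) (w : ∀ p, δ (p + 1) ≫ δ p = 0),
      (∀ p, (ShortComplex.mk (δ (p + 1)) (δ p) (w p)).Exact) ∧ Epi (δ 0) ∧
      ∀ p, Nonempty (T p ≅ tw O (d - p) ((Scheme.Modules.pullback π).obj (CohB1.tensorMod (M p) A))) := by
  have hE' := KPullLam.finLocFree_of_rank hE
  have hqE := H8Props.FinLocFree.isQCoh_of_isFinLocFree _ hE'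
  let pE := (Scheme.Modules.pullback π).obj E
  have hL : PicF.IsInvertible (O (-1)) := hO.inv (-1)
  have hpE := isFinLocFree_pullback π hE'
  obtain ⟨e₁⟩ := hO1
  obtain ⟨e₀⟩ := hO.zero
  obtain ⟨e₂⟩ := hO.add (-1) 1
  let L := (DCoh.tensorBi (X := P)).obj (O (-1))
  let E₂ := L.obj pE
  haveI : Epi (L.map q) := by
    haveI := hPB.epi
    haveI := H16Derived.KFlat.Stalk.isFlatObj_flip_of_isFlat
      (H16Derived.KFlat.Stalk.isFlat_of_isFinLocFree (PnVan.finLocFree_of_inv hL))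
    have hS : (ShortComplex.mk (kernel.ι q) q (kernel.condition q)).ShortExact :=
      { exact := ShortComplex.exact_kernel q }
    exact (H16Derived.KFlat.Stalk.isFlatObj_flip_of_isFlat
      (H16Derived.KFlat.Stalk.isFlat_of_isFinLocFree (PnVan.finLocFree_of_inv hL)) _ hS).epi_g
  let s : E₂ ⟶ Coh.structureModule P :=
    L.map q ≫ (L.mapIso e₁.symm ≪≫ (show L.obj (O 1) ≅ O (-1 + 1) from e₂) ≪≫ eqToIso (by norm_num) ≪≫ e₀).hom
  have hE₂ : FlatMod.IsFinLocFree E₂ := isFinLocFree_tensor (PnVan.finLocFree_of_inv hL) hpE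
  obtain ⟨C⟩ := Koszul.nonempty_cx s (H8Props.FinLocFree.isQCoh_of_isFinLocFree _ hE₂)
  let G : P.Modules := tw O d ((Scheme.Modules.pullback π).obj A)
  have hG : FlatMod.IsFinLocFree G :=
    isFinLocFree_tensor (PnVan.finLocFree_of_inv (hO.inv d)) (isFinLocFree_pullback π hA)
  let F := (DCoh.tensorBi (X := P)).obj G
  have hFex : ∀ S : ShortComplex P.Modules, S.ShortExact → (S.map F).ShortExact := fun S hS =>
    H16Derived.KFlat.Stalk.isFlatObj_flip_of_isFlat (H16Derived.KFlat.Stalk.isFlat_of_isFinLocFree hG) S hS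
  haveI hF : PreservesFiniteLimits F ∧ PreservesFiniteColimits F := ((Functor.exact_tfae F).out 0 3).1 hFex
  haveI := hF.1
  haveI := hF.2
  refine ⟨fun p => F.obj (C.K.X p), fun p => F.map (C.K.d (p + 1) p),
    fun p => by rw [← F.map_comp, C.K.d_comp_d, F.map_zero], fun p => ?_, ?_, fun p => ?_⟩
  · exact (Koszul.exact_succ C p).map F
  · haveI := Koszul.epi_d C
    exact F.map_epi (C.K.d 1 0)
  · have hp : ExtPow.IsExtPow p E₂ (C.K.X p) := ⟨fun U => C.loc p U, fun U V h e => C.loc_res p U V h e⟩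
    have hpM := ExtPowHom.isExtPow_pullback π hqE (hM p)
    obtain ⟨a⟩ := ExtPowTwist.nonempty_iso (H8Props.FinLocFree.isQCoh_of_isFinLocFree _ hpE) hL hpM
      (ExtPowSES.isExtPow_of_iso (show E₂ ≅ CohB1.tensorMod pE (O (-1)) from H10Coh.Tw.commIso _ _) hp)
    obtain ⟨b⟩ := nonempty_tensorPow_neg hO p
    obtain ⟨c⟩ := nonempty_tw_tw hO (-(p : ℤ)) d (d - p) (by ring)
      ((Scheme.Modules.pullback π).obj (CohB1.tensorMod (M p) A))
    let pM := (Scheme.Modules.pullback π).obj (M p)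
    let pA := (Scheme.Modules.pullback π).obj A
    let t : (Scheme.Modules.pullback π).obj (CohB1.tensorMod (M p) A) ≅ CohB1.tensorMod pM pA :=
      (pullTensorLIso π A).app (M p)
    refine ⟨?_ ≪≫ c⟩
    exact (show F.obj (C.K.X p) ≅ CohB1.tensorMod (CohB1.tensorMod (O d) pA) (CohB1.tensorMod pM (O (-(p : ℤ)))) from
        PicGrp.tensorModIso (Iso.refl G) (a ≪≫ PicGrp.tensorModIso (Iso.refl pM) b)) ≪≫
      PicGrp.tensorModIso (Iso.refl _) (H10Coh.Tw.commIso _ _) ≪≫ leftComm _ _ _ ≪≫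
      PicGrp.tensorModIso (Iso.refl _) (H10Coh.Tw.assoc _ _ _ ≪≫
        PicGrp.tensorModIso (Iso.refl _) (H10Coh.Tw.commIso _ _ ≪≫ t.symm))

end Groth.Agent.H22Alg.PB
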