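import Groth.Agent.H22Alg.PB.Kos

/-! # Independence of `1, ξ, …, ξ^r` over the K₀ of the base. -/

set_option autoImplicit false
set_option linter.style.haveILetI false

universe u

open CategoryTheory CategoryTheory.Limits AlgebraicGeometry Opposite TopologicalSpace
open Groth.Agent.H10Coh.Stab
attribute [local instance] HasDerivedCategory.standard
attribute [local instance 10000] Groth.Agent.H10Coh.hasSheafifyAb Groth.Agent.H10Coh.hasWeakSheafifyAb Groth.Agent.H10Coh.hasExtAb Groth.Agent.H10Coh.enoughInjAb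
attribute [local instance] Groth.Agent.H22Alg.KExists.commRing

noncomputable section

namespace Groth.Agent.H22Alg.PB

open H16Derived.KFlat.Stalk

variable {X P : Scheme.{u}}

theorem rank_of_rk {M : X.Modules} (hM : FlatMod.IsFinLocFree M) {n : ℕ} (h : ∀ x, KExists.rk x M = n) :
    FlatMod.IsFinLocFreeOfRank n M := fun x => by
  obtain ⟨U, m, hx, ⟨e⟩⟩ := hM x
  obtain ⟨V, hV, hxV, hle⟩ := exists_isAffineOpen_mem_and_subset (x := x) (U := U) hx
  obtain ⟨b⟩ := H8Props.FinLocFree.exists_basis_of_chart M e hle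
  obtain ⟨b'⟩ := ExtPowSum.exists_stalkBasis (H8Props.FinLocFree.isQCoh_of_isFinLocFree _ hM) hV b hxV
  have h1 := h x
  rw [KExists.rk, Module.finrank_eq_card_basis b', Fintype.card_fin] at h1
  subst h1
  exact ⟨U, hx, ⟨e⟩⟩

/-- The class of a top exterior power is a unit. -/
theorem isUnit_cl_top {E M : X.Modules} {n : ℕ} (hE : FlatMod.IsFinLocFreeOfRank n E) (hM : ExtPow.IsExtPow n E M) :
    IsUnit (KRR.cl X M) := by
  have hE' := KPullLam.finLocFree_of_rank hE
  have hM' := ExtPowHom.finLocFree_of_isExtPow hE' hM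
  have h1 : FlatMod.IsFinLocFreeOfRank 1 M := rank_of_rk hM' fun x => by
    rw [KExists.rk_extPow hE' hM, KExists.rk_of_rank hE, Nat.choose_self]
  obtain ⟨L', hL', ⟨e⟩⟩ := H11Sym.exists_inverse (isInvertible_of_rank_one h1)
  refine IsUnit.of_mul_eq_one_right (KRR.cl X L') ?_
  rw [KExists.cl_mul (PnVan.finLocFree_of_inv hL') hM', ← KExists.cl_structure]
  exact KModel.cl_iso e (isFinLocFree_tensor (PnVan.finLocFree_of_inv hL') hM')

/-- Bundles without higher direct images. -/
abbrev Ac (π : P ⟶ X) : P.Modules → Prop := fun F => FlatMod.IsFinLocFree F ∧ ∀ i : ℕ, 1 ≤ i → Van π i F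

/-- The value of the direct image. -/
abbrev cP (π : P ⟶ X) (F : P.Modules) : SGA6.Kvb X := KRR.cl X ((Scheme.Modules.pushforward π).obj F)

theorem Van.of_isZero (π : P ⟶ X) (i : ℕ) {F : P.Modules} (h : IsZero F) : Van π i F := by
  have hz : IsZero (Coh.toAb F) := (H10Coh.shF P).map_isZero h
  rcases i with _ | m
  · exact ((Coh.pushAb π).map_isZero hz).of_iso ((Coh.pushAb π).rightDerivedZeroIsoSelf.app _)
  · haveI : Injective (Coh.toAb F) := hz.injective
    exact (Coh.pushAb π).isZero_rightDerived_obj_injective_succ m _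

theorem shortExact_push {π : P ⟶ X} {S : ShortComplex P.Modules} (hS : S.ShortExact) (h₁ : Van π 1 S.X₁) :
    (S.map (Scheme.Modules.pushforward π)).ShortExact := by
  haveI : (Scheme.Modules.pushforward π).IsRightAdjoint :=
    (Scheme.Modules.pullbackPushforwardAdjunction π).isRightAdjoint
  haveI : Epi ((Scheme.Modules.pushforward π).map S.g) := by
    haveI : Epi ((H10Coh.shF X).map ((Scheme.Modules.pushforward π).map S.g)) :=
      ExactVanish.epi_map_g (Coh.pushAb π) (RegSheaf.shortExact_toAb hS) h₁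
    exact (H10Coh.shF X).epi_of_epi_map ‹_›
  exact
    { exact := hS.exact.map_of_mono_of_preservesKernel _ hS.mono_f inferInstance
      mono_f := by
        haveI := hS.mono_f
        exact inferInstanceAs (Mono ((Scheme.Modules.pushforward π).map S.f))
      epi_g := ‹_› }

theorem shortExact_pull {π : P ⟶ X} {S : ShortComplex X.Modules} (hS : S.ShortExact)
    (h₃ : FlatMod.IsFinLocFree S.X₃) : (S.map (Scheme.Modules.pullback π)).ShortExact :=
  KModel.shortExact_pullback π hS h₃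

variable {r : ℕ} {π : P ⟶ X} {O : ℤ → P.Modules}

namespace IsPn

variable (hπ : IsPn r π O)

include hπ

theorem ac_twist {d : ℤ} (hd : -(r : ℤ) ≤ d) {A : X.Modules} (hA : FlatMod.IsFinLocFree A) :
    Ac π (PB.tw O d ((Scheme.Modules.pullback π).obj A)) :=
  ⟨hπ.finLocFree_tw d (isFinLocFree_pullback π hA), fun _ hi =>
    hπ.van_pullback hi hd (H8Props.FinLocFree.isQCoh_of_isFinLocFree _ hA)⟩

theorem push_additive [IsLocallyNoetherian X] : KTelescope.Additive (Ac π) (cP π) := fun _ hS h₁ h₂ h₃ =>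
  KModel.cl_add (shortExact_push hS (h₁.2 1 le_rfl)) (hπ.finLocFree_push h₁.1 h₁.2) (hπ.finLocFree_push h₂.1 h₂.2)
    (hπ.finLocFree_push h₃.1 h₃.2)

/-- The values `π_* (π^* A (d))`. -/
theorem exists_val [IsLocallyNoetherian X] {d : ℤ} (hd : -(r : ℤ) ≤ d) :
    ∃ v : SGA6.Kvb X →+ SGA6.Kvb X, ∀ A, FlatMod.IsFinLocFree A →
      v (KRR.cl X A) = cP π (PB.tw O d ((Scheme.Modules.pullback π).obj A)) :=
  KModel.exists_lift (fun A => cP π (PB.tw O d ((Scheme.Modules.pullback π).obj A))) fun S hS a b c =>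
    hπ.push_additive ((S.map (Scheme.Modules.pullback π)).map ((DCoh.tensorBi (X := P)).obj (O d)))
      (shortExact_tw hπ.tw d (shortExact_pull hS c)) (hπ.ac_twist hd a) (hπ.ac_twist hd b) (hπ.ac_twist hd c)

theorem ac_tensor {B : X.Modules} (hB : FlatMod.IsFinLocFree B) {F : P.Modules} (hF : FlatMod.IsFinLocFree F)
    (h : Reg π O F) : Ac π (CohB1.tensorMod ((Scheme.Modules.pullback π).obj B) F) := by
  have e : ((DCoh.tensorBi (X := P)).obj F).obj ((Scheme.Modules.pullback π).obj B) ≅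
      CohB1.tensorMod ((Scheme.Modules.pullback π).obj B) F :=
    (CMReg.comm' ((Scheme.Modules.pullback π).obj B) F).symm
  have hf := isFinLocFree_of_iso e (isFinLocFree_tensor hF (isFinLocFree_pullback π hB))
  exact ⟨hf, fun i hi => hπ.van_self (H8Props.FinLocFree.isQCoh_of_isFinLocFree _ hf)
    (hπ.reg_of_iso e (hπ.reg_tensor hB hF h)) hi⟩

theorem val_zero {A : X.Modules} (hA : FlatMod.IsFinLocFree A) :
    cP π (PB.tw O 0 ((Scheme.Modules.pullback π).obj A)) = KRR.cl X A := by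
  haveI := hπ.isIso_unit (H8Props.FinLocFree.isQCoh_of_isFinLocFree _ hA)
  obtain ⟨e⟩ := nonempty_tw_zero hπ.tw ((Scheme.Modules.pullback π).obj A)
  exact (KModel.cl_iso (asIso ((Scheme.Modules.pullbackPushforwardAdjunction π).unit.app A) ≪≫
    (Scheme.Modules.pushforward π).mapIso e.symm) hA).symm

theorem val_neg {d : ℤ} (hd : -(r : ℤ) ≤ d) (hd' : d < 0) {A : X.Modules} (hA : FlatMod.IsFinLocFree A) :
    cP π (PB.tw O d ((Scheme.Modules.pullback π).obj A)) = 0 :=
  KModel.cl_isZero (hπ.isZero_push_neg hd hd' (H8Props.FinLocFree.isQCoh_of_isFinLocFree _ hA))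

end IsPn

variable {E : X.Modules} {O1 : P.Modules} {q : (Scheme.Modules.pullback π).obj E ⟶ O1}

/-- The recursion satisfied by the values. -/
theorem val_rec [IsLocallyNoetherian X] (hE : FlatMod.IsFinLocFreeOfRank (r + 1) E)
    (hPB : KRR.IsProjBundle π E O1 q) (hπ : IsPn r π O) (hO1 : Nonempty (O 1 ≅ O1))
    (M : ℕ → X.Modules) (hM : ∀ k, ExtPow.IsExtPow k E (M k)) {A : X.Modules} (hA : FlatMod.IsFinLocFree A)
    {d : ℤ} (hd : 1 ≤ d) :
    ∑ p ∈ Finset.range (r + 2), ((-1 : ℤ) ^ p) •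
      cP π (tw O (d - p) ((Scheme.Modules.pullback π).obj (CohB1.tensorMod (M p) A))) = 0 := by
  obtain ⟨T, δ, w, hex, hepi, hT⟩ := exists_seq hE hPB hπ.tw hO1 M hM hA d
  have hMA : ∀ p, FlatMod.IsFinLocFree (CohB1.tensorMod (M p) A) := fun p =>
    isFinLocFree_tensor (ExtPowHom.finLocFree_of_isExtPow (KPullLam.finLocFree_of_rank hE) (hM p)) hA
  have hzM : ∀ p, r + 1 < p → IsZero (T p) := fun p hp => by
    have h0 := isZero_extPow_of_gt hE (hM p) hp
    refine IsZero.of_iso ?_ (hT p).some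
    refine Functor.map_isZero ((DCoh.tensorBi (X := P)).obj (O (d - p))) ?_
    haveI : (Scheme.Modules.pullback π).IsLeftAdjoint :=
      (Scheme.Modules.pullbackPushforwardAdjunction π).isLeftAdjoint
    refine (Scheme.Modules.pullback π).map_isZero (IsZero.of_iso ?_ (H10Coh.Tw.commIso (M p) A))
    exact Functor.map_isZero ((DCoh.tensorBi (X := X)).obj A) h0
  have hAc : ∀ p, Ac π (T p) := fun p => by
    by_cases hp : p ≤ r + 1
    · have h := hπ.ac_twist (d := d - p) (by omega) (hMA p)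
      exact ⟨isFinLocFree_of_iso (hT p).some.symm h.1, fun i hi => (h.2 i hi).of_iso (hT p).some.symm⟩
    · have hz := hzM p (by omega)
      exact ⟨isFinLocFree_of_isZero hz, fun i _ => Van.of_isZero π i hz⟩
  have hcyc : ∀ p, (ShortComplex.mk (kernel.ι (δ (p + 1))) (kernel.lift (δ p) (δ (p + 1)) (w p))
      (by rw [← cancel_mono (kernel.ι (δ p))]; simp)).ShortExact := fun p =>
    { exact := by
        refine ShortComplex.exact_of_f_is_kernel _ (KernelFork.IsLimit.ofι' _ _ fun {T'} k hk => ?_)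
        exact ⟨kernel.lift _ k (by
          have := hk =≫ kernel.ι (δ p)
          simpa using this), kernel.lift_ι _ _ _⟩
      mono_f := inferInstanceAs (Mono (kernel.ι (δ (p + 1))))
      epi_g := (ShortComplex.exact_iff_epi_kernel_lift _).1 (hex p) }
  have hflf : ∀ p, FlatMod.IsFinLocFree (kernel (δ p)) := fun p => by
    induction p with
    | zero =>
      exact isFinLocFree_left (S := ShortComplex.mk (kernel.ι (δ 0)) (δ 0) (kernel.condition _))
        { exact := ShortComplex.exact_kernel _ } (hAc 1).1 (hAc 0).1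
    | succ p ih => exact isFinLocFree_left (hcyc p) (hAc (p + 2)).1 ih
  have hvan : ∀ e p, r + 1 ≤ p + e → ∀ i, 1 ≤ i → Van π i (kernel (δ p)) := fun e => by
    induction e with
    | zero =>
      intro p hp i _
      exact Van.of_isZero π i (IsZero.of_mono (kernel.ι (δ p)) (hzM (p + 1) (by omega)))
    | succ e ih =>
      intro p hp i hi
      exact RegSheaf.isZero_right (Coh.pushAb π) (RegSheaf.shortExact_toAb (hcyc p)) i ((hAc (p + 2)).2 i hi)
        (ih (p + 1) (by omega) (i + 1) (by omega))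
  have h := sum_eq_zero_desc hπ.push_additive δ w hex (r + 1) (hzM _ (by omega)) hAc
    fun p => ⟨hflf p, hvan (r + 1) p (by omega)⟩
  refine Eq.trans (Finset.sum_congr rfl fun p _ => ?_) h
  refine congrArg (_ • ·) (KModel.cl_iso ((Scheme.Modules.pushforward π).mapIso (hT p).some) ?_).symm
  exact hπ.finLocFree_push (hAc p).1 (hAc p).2

/-- The map `a ↦ π^* a · ξ^i`. -/
theorem exists_term (π : P ⟶ X) {O : ℤ → P.Modules} (hO : IsTwistFamily O) (i : ℤ) :
    ∃ Ψ : SGA6.Kvb X →+ SGA6.Kvb P, ∀ A, FlatMod.IsFinLocFree A →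
      Ψ (KRR.cl X A) = KRR.cl P (tw O i ((Scheme.Modules.pullback π).obj A)) :=
  KModel.exists_lift _ fun _ hS a b c => by
    have hf : ∀ {A : X.Modules}, FlatMod.IsFinLocFree A →
        FlatMod.IsFinLocFree (tw O i ((Scheme.Modules.pullback π).obj A)) := fun hA =>
      isFinLocFree_tensor (PnVan.finLocFree_of_inv (hO.inv i)) (isFinLocFree_pullback π hA)
    exact KModel.cl_add (shortExact_tw hO i (shortExact_pull hS c)) (hf a) (hf b) (hf c)

/-- The twisted, tensored direct image on free generators. -/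
def L₀ (π : P ⟶ X) (O : ℤ → P.Modules) (N : ℤ) (B : X.Modules) :
    FreeAbelianGroup (Subtype (KRR.vbP P)) →+ SGA6.Kvb X :=
  FreeAbelianGroup.lift fun F => cP π (CohB1.tensorMod ((Scheme.Modules.pullback π).obj B) (tw O N F.1))

theorem L₀_rel [IsLocallyNoetherian X] (hπ : IsPn r π O) (N : ℕ) {B : X.Modules} (hB : FlatMod.IsFinLocFree B)
    {S : ShortComplex P.Modules} (hS : S.ShortExact) (h₁ : KRR.vbP P S.X₁) (h₂ : KRR.vbP P S.X₂)
    (h₃ : KRR.vbP P S.X₃)
    (a₁ : Ac π (CohB1.tensorMod ((Scheme.Modules.pullback π).obj B) (tw O (N : ℤ) S.X₁)))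
    (a₂ : Ac π (CohB1.tensorMod ((Scheme.Modules.pullback π).obj B) (tw O (N : ℤ) S.X₂)))
    (a₃ : Ac π (CohB1.tensorMod ((Scheme.Modules.pullback π).obj B) (tw O (N : ℤ) S.X₃))) :
    L₀ π O (N : ℤ) B (FreeAbelianGroup.of ⟨S.X₂, h₂⟩ - FreeAbelianGroup.of ⟨S.X₁, h₁⟩ -
      FreeAbelianGroup.of ⟨S.X₃, h₃⟩) = 0 := by
  let T := (DCoh.tensorBi (X := P)).obj ((Scheme.Modules.pullback π).obj B)
  have hT : ((S.map ((DCoh.tensorBi (X := P)).obj (O (N : ℤ)))).map T).ShortExact :=
    H16Derived.KFlat.Stalk.isFlatObj_flip_of_isFlat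
      (H16Derived.KFlat.Stalk.isFlat_of_isFinLocFree (isFinLocFree_pullback π hB))
      _ (shortExact_tw hπ.tw (N : ℤ) hS)
  have h := hπ.push_additive _ hT a₁ a₂ a₃
  rw [map_sub, map_sub, L₀, FreeAbelianGroup.lift_apply_of, FreeAbelianGroup.lift_apply_of,
    FreeAbelianGroup.lift_apply_of, sub_sub, sub_eq_zero]
  exact h

theorem eventually_zero [IsNoetherian X] (hπ : IsPn r π O) {x : FreeAbelianGroup (Subtype (KRR.vbP P))}
    (hx : x ∈ KZero.relSub (KRR.vbP P)) :
    ∃ N₀ : ℕ, ∀ N : ℕ, N₀ ≤ N → ∀ B, FlatMod.IsFinLocFree B → L₀ π O N B x = 0 := by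
  induction hx using AddSubgroup.closure_induction with
  | mem x hx =>
    obtain ⟨S, h₁, h₂, h₃, hS, rfl⟩ := hx
    haveI := hπ.isProper
    have hcoh : ∀ {F : P.Modules}, FlatMod.IsFinLocFree F → Coh.IsCoh F := fun h => isCoh_of_isFinLocFree h
    obtain ⟨n₁, hn₁⟩ := hπ.exists_reg_twist (hcoh h₁)
    obtain ⟨n₂, hn₂⟩ := hπ.exists_reg_twist (hcoh h₂)
    obtain ⟨n₃, hn₃⟩ := hπ.exists_reg_twist (hcoh h₃)
    refine ⟨max n₁ (max n₂ n₃), fun N hN B hB => ?_⟩
    have hpB := isFinLocFree_pullback π hB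
    have a₁ := hπ.ac_tensor hB (hπ.finLocFree_tw N h₁) (hn₁ N (by omega))
    have a₂ := hπ.ac_tensor hB (hπ.finLocFree_tw N h₂) (hn₂ N (by omega))
    have a₃ := hπ.ac_tensor hB (hπ.finLocFree_tw N h₃) (hn₃ N (by omega))
    exact L₀_rel hπ N hB hS h₁ h₂ h₃ a₁ a₂ a₃
  | zero => exact ⟨0, fun _ _ _ _ => map_zero _⟩
  | add a b _ _ ha hb =>
    obtain ⟨Na, ha⟩ := ha
    obtain ⟨Nb, hb⟩ := hb
    exact ⟨max Na Nb, fun N hN B hB => by rw [map_add, ha N (by omega) B hB, hb N (by omega) B hB, add_zero]⟩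
  | neg a _ ha =>
    obtain ⟨Na, ha⟩ := ha
    exact ⟨Na, fun N hN B hB => by rw [map_neg, ha N hN B hB, neg_zero]⟩

/-- Independence. -/
theorem injective [IsNoetherian X] (hE : FlatMod.IsFinLocFreeOfRank (r + 1) E) (hPB : KRR.IsProjBundle π E O1 q)
    (hπ : IsPn r π O) (hO1 : Nonempty (O 1 ≅ O1)) (Ψ : Fin (r + 1) → (SGA6.Kvb X →+ SGA6.Kvb P))
    (hΨ : ∀ (i : Fin (r + 1)) A, FlatMod.IsFinLocFree A →
      Ψ i (KRR.cl X A) = KRR.cl P (tw O ((i : ℕ) : ℤ) ((Scheme.Modules.pullback π).obj A)))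
    (a : Fin (r + 1) → SGA6.Kvb X) (ha : ∑ i, Ψ i (a i) = 0) : a = 0 := by
  classical
  have hE' := KPullLam.finLocFree_of_rank hE
  -- values
  choose v hv using fun (d : ℕ) => hπ.exists_val (d := (d : ℤ) - r) (by omega)
  let val : ℤ → (SGA6.Kvb X →+ SGA6.Kvb X) := fun d => v (d + r).toNat
  have hval : ∀ d : ℤ, -(r : ℤ) ≤ d → ∀ A, FlatMod.IsFinLocFree A →
      val d (KRR.cl X A) = cP π (tw O d ((Scheme.Modules.pullback π).obj A)) := fun d hd A hA => by
    show v (d + r).toNat _ = _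
    rw [hv _ A hA, show (((d + r).toNat : ℕ) : ℤ) - r = d by omega]
  let M := fun k => KExists.extP k E
  have hM : ∀ k, ExtPow.IsExtPow k E (M k) := fun k => KExists.extP_spec k hE'
  have hMf : ∀ k, FlatMod.IsFinLocFree (M k) := fun k => KExists.finLocFree_extP k hE'
  -- the test functions
  let f : ℤ → (SGA6.Kvb X →+ SGA6.Kvb X) := fun N =>
    AddMonoidHom.mk' (fun b => ∑ i : Fin (r + 1), val (N + (i : ℕ)) (b * a i))
      fun b b' => by simp only [add_mul, map_add, Finset.sum_add_distrib]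
  -- large twists
  obtain ⟨N₀, hN₀⟩ : ∃ N₀ : ℕ, ∀ N : ℕ, N₀ ≤ N → f (N : ℤ) = 0 := by
    choose w hw using fun i => QuotientAddGroup.mk_surjective (a i)
    let lift' : Fin (r + 1) → (FreeAbelianGroup (Subtype (KRR.vbP X)) →+ FreeAbelianGroup (Subtype (KRR.vbP P))) :=
      fun i => FreeAbelianGroup.map fun A => ⟨tw O ((i : ℕ) : ℤ) ((Scheme.Modules.pullback π).obj A.1),
        hπ.finLocFree_tw _ (isFinLocFree_pullback π A.2)⟩
    have hcl : ∀ {Z : Scheme.{u}} (A : Subtype (KRR.vbP Z)),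
        (QuotientAddGroup.mk (FreeAbelianGroup.of A) : SGA6.Kvb Z) = KRR.cl Z A.1 := fun A => by
      rw [KRR.cl, KZero.clSub, dif_pos A.2]
    have hmk : ∀ i y, Ψ i (QuotientAddGroup.mk y) = QuotientAddGroup.mk (lift' i y) := fun i y => by
      induction y using FreeAbelianGroup.induction_on with
      | zero => simp
      | of A =>
        rw [hcl A, hΨ i A.1 A.2, FreeAbelianGroup.map_of_apply, hcl]
      | neg A ih => simp only [QuotientAddGroup.mk_neg, map_neg, ih]
      | add A B iha ihb => simp only [QuotientAddGroup.mk_add, map_add, iha, ihb]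
    have hrel : (∑ i, lift' i (w i)) ∈ KZero.relSub (KRR.vbP P) := by
      rw [← QuotientAddGroup.eq_zero_iff]
      refine Eq.trans ?_ ha
      simp only [← hw, hmk]
      exact map_sum (QuotientAddGroup.mk' (KZero.relSub (KRR.vbP P))) _ _
    obtain ⟨N₀, hN₀⟩ := eventually_zero hπ hrel
    refine ⟨N₀, fun N hN => KModel.kvb_ext fun B hB => ?_⟩
    have h0 := hN₀ N hN B hB
    rw [map_sum] at h0
    rw [AddMonoidHom.zero_apply]
    refine Eq.trans ?_ h0
    show ∑ i : Fin (r + 1), val ((N : ℤ) + (i : ℕ)) (KRR.cl X B * a i) = _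
    refine Finset.sum_congr rfl fun i _ => ?_
    rw [← hw i]
    generalize w i = y
    induction y using FreeAbelianGroup.induction_on with
    | zero => simp
    | of A =>
      rw [hcl A, KExists.cl_mul hB A.2, FreeAbelianGroup.map_of_apply, L₀, FreeAbelianGroup.lift_apply_of,
        hval _ (by omega) _ (isFinLocFree_tensor hB A.2)]
      obtain ⟨c⟩ := nonempty_tw_tw hπ.tw (N : ℤ) ((i : ℕ) : ℤ) ((N : ℤ) + (i : ℕ)) rfl
        ((Scheme.Modules.pullback π).obj (CohB1.tensorMod B A.1))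
      have hac := hπ.ac_twist (d := (N : ℤ) + (i : ℕ)) (by omega) (isFinLocFree_tensor hB A.2)
      refine KModel.cl_iso ((Scheme.Modules.pushforward π).mapIso ?_) (hπ.finLocFree_push hac.1 hac.2)
      exact c.symm ≪≫ PicGrp.tensorModIso (Iso.refl _) (PicGrp.tensorModIso (Iso.refl _) ((pullTensorLIso π A.1).app B)) ≪≫
        PicGrp.tensorModIso (Iso.refl _) (leftComm _ _ _) ≪≫ leftComm _ _ _
    | neg A ih => simp only [QuotientAddGroup.mk_neg, map_neg, mul_neg, ih]
    | add A B iha ihb => simp only [QuotientAddGroup.mk_add, map_add, mul_add, iha, ihb]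
  -- descending
  have hrec : ∀ N : ℤ, 1 ≤ N → ∀ b, ∑ k ∈ Finset.range (r + 2),
      ((-1 : ℤ) ^ k) • f (N - k) (KRR.cl X (M k) * b) = 0 := fun N hN b => by
    simp only [f, AddMonoidHom.mk'_apply, Finset.smul_sum, mul_assoc]
    rw [Finset.sum_comm]
    refine Finset.sum_eq_zero fun i _ => ?_
    let T : SGA6.Kvb X →+ SGA6.Kvb X := ∑ k ∈ Finset.range (r + 2),
      ((-1 : ℤ) ^ k) • (val (N - k + (i : ℕ))).comp (AddMonoidHom.mulLeft (KRR.cl X (M k)))
    have hT : T = 0 := KModel.kvb_ext fun A hA => by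
      simp only [T, AddMonoidHom.finsetSum_apply, AddMonoidHom.zero_apply, AddMonoidHom.smul_apply,
        AddMonoidHom.comp_apply, AddMonoidHom.coe_mulLeft]
      refine Eq.trans (Finset.sum_congr rfl fun k hk => congrArg (_ • ·) ?_)
        (val_rec hE hPB hπ hO1 M hM hA (d := N + (i : ℕ)) (by omega))
      have hk' := Finset.mem_range.1 hk
      rw [KExists.cl_mul (hMf k) hA, hval _ (by omega) _ (isFinLocFree_tensor (hMf k) hA),
        show N - k + (i : ℕ) = N + (i : ℕ) - k by ring]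
      rfl
    have h := DFunLike.congr_fun hT (b * a i)
    simp only [T, AddMonoidHom.finsetSum_apply, AddMonoidHom.zero_apply, AddMonoidHom.smul_apply,
      AddMonoidHom.comp_apply, AddMonoidHom.coe_mulLeft] at h
    exact h
  have hall : ∀ (m : ℕ) (N : ℤ), -(r : ℤ) ≤ N → (N₀ : ℤ) - m ≤ N → f N = 0 := fun m => by
    induction m with
    | zero =>
      intro N _ hN
      obtain ⟨k, rfl⟩ := Int.eq_ofNat_of_zero_le (show (0 : ℤ) ≤ N by omega)
      exact hN₀ k (by omega)
    | succ m ih =>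
      intro N hNr hN
      by_cases hN' : (N₀ : ℤ) - m ≤ N
      · exact ih N hNr hN'
      refine AddMonoidHom.ext fun b => ?_
      obtain ⟨u, hu⟩ := isUnit_cl_top hE (hM (r + 1))
      have h := hrec (N + r + 1) (by omega) (↑u⁻¹ * b)
      rw [Finset.sum_range_succ, Finset.sum_eq_zero fun k hk => ?_, zero_add] at h
      · rw [show N + r + 1 - ((r + 1 : ℕ) : ℤ) = N by push_cast; ring, ← mul_assoc, ← hu, Units.mul_inv, one_mul]
          at h
        rcases neg_one_pow_eq_or ℤ (r + 1) with e | e <;> rw [e] at h <;> simpa using h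
      · have hk' := Finset.mem_range.1 hk
        rw [ih (N + r + 1 - k) (by omega) (by omega), AddMonoidHom.zero_apply, smul_zero]
  by_contra hne
  obtain ⟨j, hj, hmax⟩ := Finset.exists_max_image ((Finset.univ : Finset (Fin (r + 1))).filter fun i => a i ≠ 0)
    (fun i => i) (by
      obtain ⟨i, hi⟩ := Function.ne_iff.1 hne
      exact ⟨i, by simpa using hi⟩)
  have hfj := DFunLike.congr_fun (hall (N₀ + j) (-((j : ℕ) : ℤ)) (by omega) (by push_cast; omega)) 1
  simp only [f, AddMonoidHom.mk'_apply, one_mul, AddMonoidHom.zero_apply] at hfj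
  rw [Finset.sum_eq_single j (fun i _ hij => ?_) (by simp)] at hfj
  · refine (Finset.mem_filter.1 hj).2 ?_
    rw [neg_add_cancel] at hfj
    have hid : val 0 = AddMonoidHom.id _ := KModel.kvb_ext fun A hA => by
      rw [hval 0 (by omega) A hA, hπ.val_zero hA]; rfl
    rwa [hid] at hfj
  · by_cases hai : a i = 0
    · rw [hai, map_zero]
    have hlt : (i : ℕ) < j := lt_of_le_of_ne (hmax i (by simpa using hai)) fun h => hij (Fin.ext h)
    have hz : val (-((j : ℕ) : ℤ) + (i : ℕ)) = 0 := KModel.kvb_ext fun A hA => by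
      rw [hval _ (by omega) A hA, hπ.val_neg (by omega) (by omega) hA]; rfl
    rw [hz, AddMonoidHom.zero_apply]

end Groth.Agent.H22Alg.PB
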