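import Groth.Agent.H22Alg.PB.Transfer

/-! # Regular modules on a projective-space morphism and their canonical syzygies. -/

set_option autoImplicit false
set_option linter.style.haveILetI false

universe u

open CategoryTheory CategoryTheory.Limits AlgebraicGeometry Opposite TopologicalSpace
open Groth.Agent.H11Tilde Groth.Agent.H11Ample Groth.Agent.H10Coh.Stab
attribute [local instance] HasDerivedCategory.standard
attribute [local instance 10000] Groth.Agent.H10Coh.hasSheafifyAb Groth.Agent.H10Coh.hasWeakSheafifyAb Groth.Agent.H10Coh.hasExtAb Groth.Agent.H10Coh.enoughInjAb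
attribute [local instance] Groth.Agent.H10Coh.enoughInjMod

noncomputable section

namespace Groth.Agent.H22Alg.PB

variable {X P : Scheme.{u}}

theorem isNoetherian_opens [IsNoetherian X] (U : X.Opens) : IsNoetherian (U : Scheme.{u}) :=
  haveI : CompactSpace (U : Scheme.{u}) := isCompact_iff_compactSpace.mp (NoetherianSpace.isCompact (U : Set X))
  haveI := isLocallyNoetherian_of_isOpenImmersion U.ι
  { }

section Family

variable {O : ℤ → P.Modules} (hO : IsTwistFamily O)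

include hO

theorem nonempty_tw_tw (a b c : ℤ) (h : c = a + b) (F : P.Modules) : Nonempty (tw O a (tw O b F) ≅ tw O c F) := by
  subst h
  obtain ⟨e⟩ := hO.add a b
  exact ⟨((((H15Site.ModTensor.tAssoc (O := P.sheaf)).app (O a)).app (O b)).app F).symm ≪≫
    ((DCoh.tensorBi (X := P)).mapIso e).app F⟩

theorem nonempty_tw_zero (F : P.Modules) : Nonempty (tw O 0 F ≅ F) := by
  obtain ⟨e⟩ := hO.zero
  exact ⟨((DCoh.tensorBi (X := P)).mapIso e).app F ≪≫ RegSheaf.leftUnit F⟩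

theorem shortExact_tw (d : ℤ) {S : ShortComplex P.Modules} (hS : S.ShortExact) :
    (S.map ((DCoh.tensorBi (X := P)).obj (O d))).ShortExact :=
  H16Derived.KFlat.Stalk.isFlatObj_flip_of_isFlat (H16Derived.KFlat.Stalk.isFlat_of_isFinLocFree
    (PnVan.finLocFree_of_inv (hO.inv d))) S hS

end Family

/-- Regularity. -/
def Reg (π : P ⟶ X) (O : ℤ → P.Modules) (F : P.Modules) : Prop :=
  ∀ i : ℕ, 1 ≤ i → Van π i (tw O (-(i : ℤ)) F)

variable {r : ℕ} {π : P ⟶ X} {O : ℤ → P.Modules}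

namespace IsPn

variable (hπ : IsPn r π O)

include hπ

theorem reg_of_iso {F G : P.Modules} (e : F ≅ G) (h : Reg π O F) : Reg π O G := fun i hi =>
  (h i hi).of_iso (((DCoh.tensorBi (X := P)).obj (O (-(i : ℤ)))).mapIso e)

theorem res_reg {F : P.Modules} (hF : Coh.IsQCoh F) (h : Reg π O F) (c : Chart r π O) :
    KRR.IsRegSheaf r (↑c.U : Scheme.{u}) (c.res F) := fun i hi => by
  obtain ⟨m, rfl⟩ : ∃ m, i = m + 1 := ⟨i - 1, by omega⟩
  obtain ⟨e⟩ := c.nonempty_res_tw hπ.tw (-((m + 1 : ℕ) : ℤ)) F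
  exact CMReg.van_iso e (hπ.chart_of_van (hπ.isQCoh_tw _ hF) (h (m + 1) hi) c)

theorem reg_of_chart {F : P.Modules} (hF : Coh.IsQCoh F)
    (h : ∀ c : Chart r π O, KRR.IsRegSheaf r (↑c.U : Scheme.{u}) (c.res F)) : Reg π O F := fun i hi => by
  obtain ⟨m, rfl⟩ : ∃ m, i = m + 1 := ⟨i - 1, by omega⟩
  refine hπ.van_of_chart (hπ.isQCoh_tw _ hF) fun c => ?_
  obtain ⟨e⟩ := c.nonempty_res_tw hπ.tw (-((m + 1 : ℕ) : ℤ)) F
  exact CMReg.van_iso e.symm (h c (m + 1) hi)

theorem van_self {F : P.Modules} (hF : Coh.IsQCoh F) (h : Reg π O F) {i : ℕ} (hi : 1 ≤ i) : Van π i F := by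
  obtain ⟨m, rfl⟩ : ∃ m, i = m + 1 := ⟨i - 1, by omega⟩
  exact hπ.van_of_chart hF fun c => CMReg.van_self (hπ.res_reg hF h c) hi

theorem van_of_reg {F : P.Modules} (hF : Coh.IsQCoh F) (h : Reg π O F) {i : ℕ} (hi : 1 ≤ i) (a : ℤ)
    (ha : 0 ≤ a + i) : Van π i (PB.tw O a F) := by
  obtain ⟨m, rfl⟩ : ∃ m, i = m + 1 := ⟨i - 1, by omega⟩
  refine hπ.van_of_chart (hπ.isQCoh_tw a hF) fun c => ?_
  obtain ⟨e⟩ := c.nonempty_res_tw hπ.tw a F
  exact CMReg.van_iso e.symm (CMReg.van_of_reg (hπ.res_reg hF h c) hi a ha)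

/-- Tensoring with the pull back of a bundle preserves regularity. -/
theorem reg_tensor {B : X.Modules} (hB : FlatMod.IsFinLocFree B) {F : P.Modules} (hF : FlatMod.IsFinLocFree F)
    (h : Reg π O F) : Reg π O (((DCoh.tensorBi (X := P)).obj F).obj ((Scheme.Modules.pullback π).obj B)) := by
  have hq := H8Props.FinLocFree.isQCoh_of_isFinLocFree _
    (H16Derived.KFlat.Stalk.isFinLocFree_tensor hF (H16Derived.KFlat.Stalk.isFinLocFree_pullback π hB))
  refine hπ.reg_of_chart hq fun c => ?_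
  let T : Scheme.{u} := ↑c.U
  let e := (H16Derived.KFlat.Stalk.pullTensorLIso c.j ((Scheme.Modules.pullback π).obj B)).app F ≪≫
    ((DCoh.tensorBi (X := KRR.PY r T)).obj (c.res F)).mapIso (c.resPullback B)
  intro i hi
  exact CMReg.van_iso (((DCoh.tensorBi (X := KRR.PY r T)).obj (Twist.twistOver r T (-(i : ℤ)))).mapIso e.symm)
    (KProjF.reg_tensor (H16Derived.KFlat.Stalk.isFinLocFree_pullback c.U.ι hB)
      (hπ.res_reg (H8Props.FinLocFree.isQCoh_of_isFinLocFree _ hF) h c) i hi)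

/-- High twists of a coherent module are regular. -/
theorem exists_reg_twist [IsNoetherian X] {F : P.Modules} (hF : Coh.IsCoh F) :
    ∃ m₀ : ℕ, ∀ m : ℕ, m₀ ≤ m → Reg π O (PB.tw O (m : ℤ) F) := by
  haveI := hπ.isProper
  choose c hc using hπ.chart
  obtain ⟨s, hs⟩ := CompactSpace.isCompact_univ.elim_finite_subcover (fun x : X => ((c x).U : Set X))
    (fun x => (c x).U.isOpen) (fun x _ => Set.mem_iUnion.2 ⟨x, hc x⟩)
  have key : ∀ x : X, ∃ m₀ : ℕ, ∀ m : ℕ, m₀ ≤ m →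
      KRR.IsRegSheaf r (↑(c x).U : Scheme.{u}) (KRR.twF r (↑(c x).U : Scheme.{u}) (m : ℤ) ((c x).res F)) := fun x => by
    haveI : IsNoetherian (↑(c x).U : Scheme.{u}) := isNoetherian_opens (c x).U
    exact RegBundle.exists_reg_twist (F := (c x).res F) ⟨H29Fitt.isQCoh_pullback _ F hF.1, H29Fitt.isFT_pullback _ F hF.1 hF.2⟩
  choose m₀ hm₀ using key
  refine ⟨s.sup m₀, fun m hm i hi => ?_⟩
  obtain ⟨k, rfl⟩ : ∃ k, i = k + 1 := ⟨i - 1, by omega⟩
  have hq : Coh.IsQCoh (PB.tw O (-((k + 1 : ℕ) : ℤ)) (PB.tw O (m : ℤ) F)) := hπ.isQCoh_tw _ (hπ.isQCoh_tw _ hF.1)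
  refine H10Coh.isZero_rpush_of_vanishing π.base _ k {V : X.Opens | IsAffineOpen V ∧ ∃ x ∈ s, V ≤ (c x).U}
    ?_ fun V hV => ?_
  · refine Opens.isBasis_iff_nbhd.2 fun {W y} hy => ?_
    obtain ⟨x, hxs, hyx⟩ := Set.mem_iUnion₂.1 (hs (Set.mem_univ y))
    obtain ⟨V, hV, hyV, hle⟩ := exists_isAffineOpen_mem_and_subset (x := y) (U := W ⊓ (c x).U) ⟨hy, hyx⟩
    exact ⟨V, ⟨hV, x, hxs, fun z hz => (hle hz).2⟩, hyV, fun z hz => (hle hz).1⟩
  · obtain ⟨hVa, x, hxs, hVc⟩ := hV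
    haveI := CMKer.isProper_pr r (↑(c x).U : Scheme.{u})
    refine ((c x).hnm_iff _ (k + 1) hVc).2 (subsingleton_of_van (f := KRR.pr r (↑(c x).U : Scheme.{u}))
      ((c x).isQCoh_res hq) ?_ ((c x).isAffineOpen_preimage hVa hVc))
    obtain ⟨e⟩ := (c x).nonempty_res_tw hπ.tw (-((k + 1 : ℕ) : ℤ)) (PB.tw O (m : ℤ) F)
    obtain ⟨e'⟩ := (c x).nonempty_res_tw hπ.tw (m : ℤ) F
    exact CMReg.van_iso (e ≪≫ ((DCoh.tensorBi (X := KRR.PY r (↑(c x).U : Scheme.{u}))).obj _).mapIso e').symm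
      (hm₀ x m (le_trans (Finset.le_sup hxs) hm) (k + 1) hi)

/-- Direct images of acyclic bundles are bundles. -/
theorem finLocFree_push [IsLocallyNoetherian X] {F : P.Modules} (hF : FlatMod.IsFinLocFree F)
    (hvan : ∀ i : ℕ, 1 ≤ i → Van π i F) : FlatMod.IsFinLocFree ((Scheme.Modules.pushforward π).obj F) := by
  haveI := hπ.isProper
  haveI := hπ.flat
  haveI : IsLocallyNoetherian P := LocallyOfFiniteType.isLocallyNoetherian π
  exact AcyclicPush.finLocFree_pushforward π (H16Derived.KFlat.Stalk.isCoh_of_isFinLocFree hF)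
    (H10Coh.SheafHom.isFlatOver_of_isFinLocFree _ F hF) hvan

omit hπ in
theorem spanned_iso {A B : Scheme.{u}} (p : A ⟶ B) {F G : A.Modules} (e : F ≅ G) {W : B.Opens} {V : A.Opens}
    (h : V ≤ p ⁻¹ᵁ W) {t : Γ(F, V)} (ht : t ∈ CMGen.spanned p F W V h) :
    e.hom.app V t ∈ CMGen.spanned p G W V h := by
  induction ht using Submodule.span_induction with
  | mem x hx =>
    obtain ⟨s, rfl⟩ := hx
    exact Submodule.subset_span ⟨e.hom.app _ s, (app_map_apply e.hom h s).symm⟩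
  | zero => rw [map_zero]; exact Submodule.zero_mem _
  | add x y _ _ hx hy => rw [map_add]; exact Submodule.add_mem _ hx hy
  | smul a x _ hx => rw [Scheme.Modules.Hom.app_smul]; exact Submodule.smul_mem _ _ hx

/-- The counit is an epimorphism on regular modules. -/
theorem epi_counit {F : P.Modules} (hF : Coh.IsQCoh F) (h : Reg π O F) :
    Epi ((Scheme.Modules.pullbackPushforwardAdjunction π).counit.app F) := by
  refine H11Ample.epi_counit_of_span π F fun U t z hz => ?_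
  obtain ⟨c, hc⟩ := hπ.chart (π z)
  let T : Scheme.{u} := ↑c.U
  let F' := c.res F
  obtain ⟨z', rfl⟩ : z ∈ Set.range c.j :=
    (SetLike.ext_iff.1 c.range z).2 hc
  have hF' : Coh.IsQCoh F' := c.isQCoh_res hF
  obtain ⟨e⟩ := CMReg.nonempty_B_iso F' (-(r : ℤ)) r 0 (by ring)
  obtain ⟨z₀⟩ := RegSheaf.nonempty_twF_zero (n := r) (T := T) F'
  let σ := e ≪≫ z₀ ≪≫ ((Scheme.Modules.restrictFunctorIsoPullback c.j).app F).symm
  haveI : F'.IsQuasicoherent := hF'
  haveI : (CMReg.B r T (KRR.twF r T (-(r : ℤ)) F') r).IsQuasicoherent :=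
    H10Coh.isQuasicoherent_of_iso (e ≪≫ z₀).symm
  let t' : Γ(F.restrict c.j, c.j ⁻¹ᵁ U) := F.presheaf.map (homOfLE (c.j.image_preimage_le U)).op t
  obtain ⟨D, hD, W, hDW, hzD, hsp⟩ := CMGen.exists_spanned (hπ.res_reg hF h c) (c.j ⁻¹ᵁ U) (σ.inv.app _ t') z' hz
  let V : X.Opens := c.U.ι ''ᵁ W
  have hV : c.j ''ᵁ (KRR.pr r T ⁻¹ᵁ W) = π ⁻¹ᵁ V := by
    rw [← c.image_preimage V (c.U.ι_image_le W), c.U.ι.preimage_image_eq W]
  have hle : c.j ''ᵁ D ≤ π ⁻¹ᵁ V := (c.j.image_mono hDW).trans hV.le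
  refine ⟨c.j ''ᵁ D, (c.j.image_mono hD).trans (c.j.image_preimage_le U), V, hle, ⟨z', hzD, rfl⟩, ?_⟩
  have h1 : (F.restrict c.j).presheaf.map (homOfLE hD).op t' ∈ CMGen.spanned (KRR.pr r T) (F.restrict c.j) W D hDW := by
    have := spanned_iso (KRR.pr r T) σ hDW hsp
    rw [app_map_apply] at this
    have h2 : σ.hom.app (c.j ⁻¹ᵁ U) (σ.inv.app (c.j ⁻¹ᵁ U) t') = t' :=
      congr($(congrArg (fun k => Scheme.Modules.Hom.app k (c.j ⁻¹ᵁ U)) σ.inv_hom_id) t')
    rwa [h2] at this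
  have key : ∀ y : Γ(F.restrict c.j, D), y ∈ CMGen.spanned (KRR.pr r T) (F.restrict c.j) W D hDW →
      (y : Γ(F, c.j ''ᵁ D)) ∈ Submodule.span Γ(P, c.j ''ᵁ D)
        (Set.range fun s : Γ(F, π ⁻¹ᵁ V) => F.presheaf.map (homOfLE hle).op s) := fun y hy => by
    induction hy using Submodule.span_induction with
    | mem x hx =>
      obtain ⟨s, rfl⟩ := hx
      refine Submodule.subset_span ⟨F.presheaf.map (homOfLE hV.ge).op s, ?_⟩
      exact H10Coh.mres_mres F _ _ _
    | zero => exact Submodule.zero_mem _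
    | add x y _ _ hx hy => exact Submodule.add_mem _ hx hy
    | smul a x _ hx => exact Submodule.smul_mem _ ((c.j.appIso D).inv a) hx
  have h3 := key _ h1
  have h4 : ((F.restrict c.j).presheaf.map (homOfLE hD).op t' : Γ(F, c.j ''ᵁ D)) =
      F.presheaf.map (homOfLE ((c.j.image_mono hD).trans (c.j.image_preimage_le U))).op t :=
    H10Coh.mres_mres F _ _ _
  rw [h4] at h3
  exact h3

variable (π) in
/-- `π^* π_* F`. -/
abbrev PP (F : P.Modules) : P.Modules :=
  (Scheme.Modules.pullback π).obj ((Scheme.Modules.pushforward π).obj F)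

variable (π) in
/-- The counit. -/
abbrev ε (F : P.Modules) : PP π F ⟶ F := (Scheme.Modules.pullbackPushforwardAdjunction π).counit.app F

end IsPn

/-- The next regular module. -/
def next (π : P ⟶ X) (O : ℤ → P.Modules) (F : P.Modules) : P.Modules :=
  tw O 1 (kernel ((Scheme.Modules.pullbackPushforwardAdjunction π).counit.app F))

/-- The iterates. -/
def Fk (π : P ⟶ X) (O : ℤ → P.Modules) (F : P.Modules) : ℕ → P.Modules
  | 0 => F
  | k + 1 => next π O (Fk π O F k)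

namespace IsPn

variable (hπ : IsPn r π O)

include hπ

omit hπ in
theorem shortExact_ker (F : P.Modules) [Epi (ε π F)] :
    (ShortComplex.mk (kernel.ι (ε π F)) (ε π F) (kernel.condition _)).ShortExact :=
  { exact := ShortComplex.exact_kernel _ }

theorem isQCoh_PP {F : P.Modules} (hF : Coh.IsQCoh F) : Coh.IsQCoh (PP π F) :=
  H29Fitt.isQCoh_pullback π _ (hπ.isQCoh_push hF)

theorem isQCoh_next {F : P.Modules} (hF : Coh.IsQCoh F) : Coh.IsQCoh (next π O F) := by
  haveI : (PP π F).IsQuasicoherent := hπ.isQCoh_PP hF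
  haveI : F.IsQuasicoherent := hF
  exact hπ.isQCoh_tw 1 (H10Coh.isQuasicoherent_kernel (ε π F))

theorem isIso_push_ε {F : P.Modules} (hF : Coh.IsQCoh F) : IsIso ((Scheme.Modules.pushforward π).map (ε π F)) := by
  haveI := hπ.isIso_unit (hπ.isQCoh_push hF)
  exact IsIso.of_isIso_fac_left ((Scheme.Modules.pullbackPushforwardAdjunction π).right_triangle_components F)

theorem van_PP {F : P.Modules} (hF : Coh.IsQCoh F) {i : ℕ} (hi : 1 ≤ i) : Van π i (PP π F) := by
  obtain ⟨e⟩ := nonempty_tw_zero hπ.tw (PP π F)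
  exact (hπ.van_pullback hi (d := 0) (by omega) (hπ.isQCoh_push hF)).of_iso e

theorem van_kernel {F : P.Modules} (hF : Coh.IsQCoh F) (h : Reg π O F) {i : ℕ} (hi : 1 ≤ i) :
    Van π i (kernel (ε π F)) := by
  haveI := hπ.epi_counit hF h
  haveI := hπ.isIso_push_ε hF
  have hS := RegSheaf.shortExact_toAb (shortExact_ker (π := π) F)
  obtain ⟨j, rfl⟩ : ∃ j, i = j + 1 := ⟨i - 1, by omega⟩
  rcases Nat.eq_zero_or_pos j with rfl | hj
  · exact RegSheaf.isZero_one (Coh.pushAb π) hS (hπ.van_PP hF le_rfl)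
      ((H10Coh.shF X).map_epi ((Scheme.Modules.pushforward π).map (ε π F)))
  · exact RegSheaf.isZero_left (Coh.pushAb π) hS j (hπ.van_self hF h hj) (hπ.van_PP hF (by omega))

theorem isZero_push_kernel {F : P.Modules} (hF : Coh.IsQCoh F) :
    IsZero ((Scheme.Modules.pushforward π).obj (kernel (ε π F))) := by
  haveI := hπ.isIso_push_ε hF
  haveI : (Scheme.Modules.pushforward π).IsRightAdjoint :=
    (Scheme.Modules.pullbackPushforwardAdjunction π).isRightAdjoint
  rw [IsZero.iff_id_eq_zero]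
  rw [← cancel_mono ((Scheme.Modules.pushforward π).map (kernel.ι (ε π F))),
    ← cancel_mono ((Scheme.Modules.pushforward π).map (ε π F)), Category.assoc, ← Functor.map_comp,
    kernel.condition, Functor.map_zero, comp_zero, zero_comp, zero_comp]

theorem reg_next {F : P.Modules} (hF : Coh.IsQCoh F) (h : Reg π O F) : Reg π O (next π O F) := fun i hi => by
  haveI := hπ.epi_counit hF h
  obtain ⟨j, rfl⟩ : ∃ j, i = j + 1 := ⟨i - 1, by omega⟩
  obtain ⟨e⟩ := nonempty_tw_tw hπ.tw (-((j + 1 : ℕ) : ℤ)) 1 (-(j : ℤ)) (by push_cast; ring) (kernel (ε π F))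
  refine Van.of_iso e.symm ?_
  rcases Nat.eq_zero_or_pos j with rfl | hj
  · obtain ⟨z⟩ := nonempty_tw_zero hπ.tw (kernel (ε π F))
    exact (hπ.van_kernel hF h le_rfl).of_iso z.symm
  · refine RegSheaf.isZero_left (Coh.pushAb π)
      (RegSheaf.shortExact_toAb (shortExact_tw hπ.tw (-(j : ℤ)) (shortExact_ker (π := π) F))) j (h j hj) ?_
    by_cases hjr : j ≤ r
    · exact hπ.van_pullback (by omega) (by omega) (hπ.isQCoh_push hF)
    · exact hπ.van_high (by omega) (hπ.isQCoh_tw _ (hπ.isQCoh_PP hF))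

theorem good {F : P.Modules} (hF : Coh.IsQCoh F) (h : Reg π O F) :
    ∀ k, Coh.IsQCoh (Fk π O F k) ∧ Reg π O (Fk π O F k)
  | 0 => ⟨hF, h⟩
  | k + 1 => ⟨hπ.isQCoh_next (good hF h k).1, hπ.reg_next (good hF h k).1 (good hF h k).2⟩

theorem push_tw_zero_iff {M : P.Modules} :
    IsZero ((Scheme.Modules.pushforward π).obj M) ↔ Van π 0 M := by
  refine ⟨fun h => ?_, fun h => ?_⟩
  · exact ((H10Coh.shF X).map_isZero h : IsZero ((Coh.pushAb π).obj (Coh.toAb M))).of_iso
      ((Coh.pushAb π).rightDerivedZeroIsoSelf.app _)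
  · refine (IsZero.iff_id_eq_zero _).2 ((H10Coh.shF X).map_injective ?_)
    exact (IsZero.of_iso h ((Coh.pushAb π).rightDerivedZeroIsoSelf.app (Coh.toAb M)).symm :
      IsZero ((H10Coh.shF X).obj ((Scheme.Modules.pushforward π).obj M))).eq_of_src _ _

/-- All twists `F_k(-j)`, `1 ≤ j ≤ k`, have no higher or lower direct images. -/
theorem van_Fk {F : P.Modules} (hF : Coh.IsQCoh F) (h : Reg π O F) :
    ∀ k, k ≤ r + 1 → ∀ j, 1 ≤ j → j ≤ k → ∀ q, Van π q (PB.tw O (-(j : ℤ)) (Fk π O F k))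
  | 0, _, j, h1, h2, _ => by omega
  | k + 1, hk, j, h1, h2, q => by
    obtain ⟨a, rfl⟩ : ∃ a, j = a + 1 := ⟨j - 1, by omega⟩
    have hg := hπ.good hF h k
    obtain ⟨e⟩ := nonempty_tw_tw hπ.tw (-((a + 1 : ℕ) : ℤ)) 1 (-(a : ℤ)) (by push_cast; ring)
      (kernel (ε π (Fk π O F k)))
    refine Van.of_iso e.symm ?_
    rcases Nat.eq_zero_or_pos a with rfl | ha
    · obtain ⟨z⟩ := nonempty_tw_zero hπ.tw (kernel (ε π (Fk π O F k)))
      refine Van.of_iso z.symm ?_
      rcases Nat.eq_zero_or_pos q with rfl | hq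
      · exact hπ.push_tw_zero_iff.1 (hπ.isZero_push_kernel hg.1)
      · exact hπ.van_kernel hg.1 hg.2 hq
    · haveI := hπ.epi_counit hg.1 hg.2
      have hS := shortExact_tw hπ.tw (-(a : ℤ)) (shortExact_ker (π := π) (Fk π O F k))
      cases q with
      | zero =>
        haveI : (Scheme.Modules.pushforward π).IsRightAdjoint :=
          (Scheme.Modules.pullbackPushforwardAdjunction π).isRightAdjoint
        haveI : Mono (((DCoh.tensorBi (X := P)).obj (O (-(a : ℤ)))).map (kernel.ι (ε π (Fk π O F k)))) := hS.mono_f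
        exact hπ.push_tw_zero_iff.1 (IsZero.of_mono ((Scheme.Modules.pushforward π).map
          (((DCoh.tensorBi (X := P)).obj (O (-(a : ℤ)))).map (kernel.ι (ε π (Fk π O F k)))))
          (hπ.isZero_push_neg (by omega) (by omega) (hπ.isQCoh_push hg.1)))
      | succ i =>
        exact RegSheaf.isZero_left (Coh.pushAb π) (RegSheaf.shortExact_toAb hS) i
          (van_Fk hF h k (by omega) a ha (by omega) i)
          (hπ.van_pullback (by omega) (by omega) (hπ.isQCoh_push hg.1))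

theorem isZero_Fk_top {F : P.Modules} (hF : Coh.IsQCoh F) (h : Reg π O F) : IsZero (Fk π O F (r + 1)) := by
  have hV := hπ.van_Fk hF h (r + 1) le_rfl
  have hq := (hπ.good hF h (r + 1)).1
  have hreg : Reg π O (PB.tw O (-1) (Fk π O F (r + 1))) := fun i hi => by
    by_cases hir : i ≤ r
    · obtain ⟨e⟩ := nonempty_tw_tw hπ.tw (-(i : ℤ)) (-1) (-((i + 1 : ℕ) : ℤ)) (by push_cast; ring) (Fk π O F (r + 1))
      exact (hV (i + 1) (by omega) (by omega) i).of_iso e.symm
    · exact hπ.van_high (by omega) (hπ.isQCoh_tw _ (hπ.isQCoh_tw _ hq))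
  have hG : IsZero (PB.tw O (-1) (Fk π O F (r + 1))) := by
    haveI := hπ.epi_counit (hπ.isQCoh_tw _ hq) hreg
    haveI : (Scheme.Modules.pullback π).IsLeftAdjoint :=
      (Scheme.Modules.pullbackPushforwardAdjunction π).isLeftAdjoint
    exact IsZero.of_epi (ε π (PB.tw O (-1) (Fk π O F (r + 1))))
      ((Scheme.Modules.pullback π).map_isZero (hπ.push_tw_zero_iff.2 (hV 1 le_rfl (by omega) 0)))
  obtain ⟨e⟩ := nonempty_tw_tw hπ.tw 1 (-1) 0 (by ring) (Fk π O F (r + 1))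
  obtain ⟨z⟩ := nonempty_tw_zero hπ.tw (Fk π O F (r + 1))
  exact (Functor.map_isZero ((DCoh.tensorBi (X := P)).obj (O 1)) hG).of_iso (e ≪≫ z).symm

end IsPn

end Groth.Agent.H22Alg.PB
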