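import Groth.Agent.H29Fitt.FreeLocal
import Groth.Agent.H11Sym.BundleTaut
import Groth.Agent.H11Proj.PnGlobal
import Groth.Agent.H22Alg.CMReg
import Groth.Prelude.Def_KRR

/-! # Homomorphisms out of a module that is free on an open, by values on a basis; matching of sections. -/

set_option autoImplicit false
set_option linter.style.haveILetI false

universe u

open CategoryTheory CategoryTheory.Limits AlgebraicGeometry Opposite TopologicalSpace
open Groth.Agent.H11Tilde Groth.Agent.H11Ample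

noncomputable section

namespace Groth.Agent.H22Alg.PB

section Bas

variable {X : Scheme.{u}} {E : X.Modules} {U : X.Opens} {n : ℕ}
  (e : E.restrict U.ι ≅ FlatMod.freeMod (↑U : Scheme.{u}) n)

/-- The open, as an image. -/
abbrev U₀ (U : X.Opens) : X.Opens := U.ι ''ᵁ ⊤

/-- The basis sections. -/
def bas (i : Fin n) : Γ(E, U₀ U) :=
  (e.inv.app ⊤ (H29Fitt.gen (↑U : Scheme.{u}) n i ⊤) : Γ(E.restrict U.ι, ⊤))

theorem free_hom_ext {Z : Scheme.{u}} {N : Z.Modules} {a b : FlatMod.freeMod Z n ⟶ N}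
    (h : ∀ i, a.app ⊤ (H29Fitt.gen Z n i ⊤) = b.app ⊤ (H29Fitt.gen Z n i ⊤)) : a = b := by
  refine Scheme.Modules.hom_ext _ _ fun W => ?_
  ext z
  obtain ⟨c, rfl⟩ := H29Fitt.exists_eq_sum_gen n W z
  refine (map_sum (a.app W).hom _ _).trans ((Finset.sum_congr rfl fun i _ => ?_).trans (map_sum (b.app W).hom _ _).symm)
  change a.app W (c i • H29Fitt.gen Z n i W) = b.app W (c i • H29Fitt.gen Z n i W)
  rw [Scheme.Modules.Hom.app_smul, Scheme.Modules.Hom.app_smul, ← H29Fitt.res_gen n i (le_top : W ≤ ⊤),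
    app_map_apply, app_map_apply, h i]

include e in
theorem ext_bas {N : X.Modules} {u u' : E ⟶ N}
    (h : ∀ i, u.app (U₀ U) (bas e i) = u'.app (U₀ U) (bas e i)) {V : X.Opens} (hV : V ≤ U₀ U) (m : Γ(E, V)) :
    u.app V m = u'.app V m := by
  have key : (Scheme.Modules.restrictFunctor U.ι).map u = (Scheme.Modules.restrictFunctor U.ι).map u' :=
    (cancel_epi e.inv).1 (free_hom_ext fun i => h i)
  obtain ⟨W, rfl⟩ : ∃ W : (↑U : Scheme.{u}).Opens, U.ι ''ᵁ W = V := by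
    refine ⟨U.ι ⁻¹ᵁ V, ?_⟩
    rw [Scheme.Hom.image_preimage_eq_opensRange_inf, Scheme.Opens.opensRange_ι]
    exact inf_eq_right.2 fun x hx => (U.ι_image_top).le (hV hx)
  exact congr($(congrArg (fun k => Scheme.Modules.Hom.app k W) key) m)

theorem res_inj {Z : Scheme.{u}} (L : Z.Modules) {A B : Z.Opens} (h : A ≤ B) (h' : B ≤ A) :
    Function.Injective (L.presheaf.map (homOfLE h).op) := fun a b hab => by
  have := congrArg (L.presheaf.map (homOfLE h').op) hab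
  rwa [H10Coh.mres_mres, H10Coh.mres_mres, H10Coh.mres_self, H10Coh.mres_self] at this

variable {T : Scheme.{u}} {L : T.Modules}

include e in
/-- Maps into a direct image along a morphism with image in `U` are determined by the basis. -/
theorem ext_push (g : T ⟶ X) (hg : ⊤ ≤ g ⁻¹ᵁ U₀ U) {u u' : E ⟶ (Scheme.Modules.pushforward g).obj L}
    (h : ∀ i, u.app (U₀ U) (bas e i) = u'.app (U₀ U) (bas e i)) : u = u' := by
  refine Scheme.Modules.hom_ext _ _ fun V => ?_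
  ext m
  have hV : g ⁻¹ᵁ V ≤ g ⁻¹ᵁ (V ⊓ U₀ U) := fun x hx => ⟨hx, hg trivial⟩
  refine res_inj L (g.preimage_mono (inf_le_left : V ⊓ U₀ U ≤ V)) hV ?_
  exact (app_map_apply u (inf_le_left : V ⊓ U₀ U ≤ V) m).symm.trans
    ((ext_bas e h inf_le_right _).trans (app_map_apply u' _ m))

include e in
/-- Maps into a direct image with given values on the basis. -/
theorem exists_push (g' : T ⟶ (↑U : Scheme.{u})) (w : Fin n → Γ(L, ⊤)) :
    ∃ u : E ⟶ (Scheme.Modules.pushforward (g' ≫ U.ι)).obj L, ∀ i,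
      u.app (U₀ U) (bas e i) = L.presheaf.map (homOfLE (le_top : (g' ≫ U.ι) ⁻¹ᵁ U₀ U ≤ ⊤)).op (w i) := by
  let u' : E.restrict U.ι ⟶ (Scheme.Modules.pushforward g').obj L := e.hom ≫ H29Fitt.freeHom _ w
  refine ⟨(Scheme.Modules.restrictAdjunction U.ι).unit.app E ≫ (Scheme.Modules.pushforward U.ι).map u' ≫
    (Scheme.Modules.pushforwardComp g' U.ι).hom.app L, fun i => ?_⟩
  have h0 : u'.app ⊤ (bas e i : Γ(E.restrict U.ι, ⊤)) = (w i : Γ((Scheme.Modules.pushforward g').obj L, ⊤)) := by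
    refine Eq.trans (congrArg ((H29Fitt.freeHom ((Scheme.Modules.pushforward g').obj L) w).app ⊤)
      (show e.hom.app ⊤ (bas e i : Γ(E.restrict U.ι, ⊤)) = H29Fitt.gen (↑U : Scheme.{u}) n i ⊤ from
        congr($(congrArg (fun k => Scheme.Modules.Hom.app k ⊤) e.inv_hom_id) _))) ?_
    refine (H29Fitt.freeHom_gen ((Scheme.Modules.pushforward g').obj L) w i ⊤).trans ?_
    exact H10Coh.mres_self _ _ _
  show u'.app (U.ι ⁻¹ᵁ U₀ U) ((E.restrict U.ι).presheaf.map (homOfLE (le_top : U.ι ⁻¹ᵁ U₀ U ≤ ⊤)).op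
    (bas e i : Γ(E.restrict U.ι, ⊤))) = _
  rw [app_map_apply, h0]
  rfl

end Bas

section Mt

variable {X Y Z : Scheme.{u}}

/-- A pulled back section over everything. -/
def pt (h : X ⟶ Y) {M : Y.Modules} {S : Y.Opens} (hS : ⊤ ≤ h ⁻¹ᵁ S) (v : Γ(M, S)) :
    Γ((Scheme.Modules.pullback h).obj M, ⊤) :=
  ((Scheme.Modules.pullback h).obj M).presheaf.map (homOfLE hS).op (OmegaSh.pullSect h M S v)

theorem pt_top (h : X ⟶ Y) {M : Y.Modules} (v : Γ(M, ⊤)) : pt h (S := ⊤) le_rfl v = pullTop h v :=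
  H10Coh.mres_self _ _ _

theorem pt_comp (f : X ⟶ Y) (g : Y ⟶ Z) {M : Z.Modules} {S : Z.Opens} (hS : ⊤ ≤ g ⁻¹ᵁ S)
    (hS' : ⊤ ≤ (f ≫ g) ⁻¹ᵁ S) (v : Γ(M, S)) :
    ((Scheme.Modules.pullbackComp f g).inv.app M).app ⊤ (pt (f ≫ g) hS' v) = pullTop f (pt g hS v) := by
  rw [pt, pt, app_map_apply]
  refine (congrArg _ (H11Sym.pullSect_comp f g M S v)).trans ?_
  exact (pullSect_res f ((Scheme.Modules.pullback g).obj M) hS (OmegaSh.pullSect g M S v)).symm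

/-- An isomorphism carrying pulled back sections to given ones. -/
def Mt {n : ℕ} (h : X ⟶ Y) {M : Y.Modules} {S : Y.Opens} (v : Fin n → Γ(M, S)) (L : X.Modules)
    (w : Fin n → Γ(L, ⊤)) : Prop :=
  ∃ (hS : ⊤ ≤ h ⁻¹ᵁ S) (τ : (Scheme.Modules.pullback h).obj M ≅ L), ∀ i, τ.hom.app ⊤ (pt h hS (v i)) = w i

variable {n : ℕ} {M : Z.Modules} {S : Z.Opens} {v : Fin n → Γ(M, S)}

theorem Mt.comp {g : Y ⟶ Z} {L : Y.Modules} {w : Fin n → Γ(L, ⊤)} (hg : Mt g v L w) (f : X ⟶ Y) :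
    Mt (f ≫ g) v ((Scheme.Modules.pullback f).obj L) fun i => pullTop f (w i) := by
  obtain ⟨hS, τ, hτ⟩ := hg
  refine ⟨fun x _ => hS (show f x ∈ (⊤ : Y.Opens) from trivial),
    (Scheme.Modules.pullbackComp f g).symm.app M ≪≫ (Scheme.Modules.pullback f).mapIso τ, fun i => ?_⟩
  refine Eq.trans (congrArg (((Scheme.Modules.pullback f).map τ.hom).app ⊤) (pt_comp f g hS _ (v i))) ?_
  refine (H17.PullSect.pullSect_natural f τ.hom ⊤ _).symm.trans ?_
  exact congrArg (pullTop f) (hτ i)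

theorem Mt.trans {h : X ⟶ Z} {L L' : X.Modules} {w : Fin n → Γ(L, ⊤)} {w' : Fin n → Γ(L', ⊤)} (hh : Mt h v L w)
    (σ : L ≅ L') (hσ : ∀ i, σ.hom.app ⊤ (w i) = w' i) : Mt h v L' w' := by
  obtain ⟨hS, τ, hτ⟩ := hh
  refine ⟨hS, τ ≪≫ σ, fun i => ?_⟩
  show σ.hom.app ⊤ (τ.hom.app ⊤ _) = _
  rw [hτ i, hσ i]

theorem Mt.self (j : Y ⟶ Z) (hS : ⊤ ≤ j ⁻¹ᵁ S) :
    Mt j v ((Scheme.Modules.pullback j).obj M) fun i => pt j hS (v i) :=
  ⟨hS, Iso.refl _, fun _ => rfl⟩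

theorem Mt.unfold {f : X ⟶ Y} {j : Y ⟶ Z} (hS : ⊤ ≤ j ⁻¹ᵁ S) {L : X.Modules} {w : Fin n → Γ(L, ⊤)}
    (h : Mt (f ≫ j) v L w) : Mt f (S := ⊤) (fun i => pt j hS (v i)) L w := by
  obtain ⟨hS', τ, hτ⟩ := h
  refine ⟨le_rfl, ((Scheme.Modules.pullbackComp f j).app M) ≪≫ τ, fun i => ?_⟩
  rw [pt_top, ← pt_comp f j hS hS']
  show τ.hom.app ⊤ (((Scheme.Modules.pullbackComp f j).inv.app M ≫ (Scheme.Modules.pullbackComp f j).hom.app M).app ⊤ _) = _
  rw [Iso.inv_hom_id_app]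
  exact hτ i

end Mt

end Groth.Agent.H22Alg.PB
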