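import Groth.Agent.H22Alg.PB.Local
import Groth.Agent.H22Alg.SyzPn
import Groth.Agent.H22Alg.RegBundle
import Groth.Agent.H22Alg.KProjF
import Groth.Agent.LeadBC.SectRpush

/-! # Projective-space morphisms with a twist family: properties transferred from `P^r_U`. -/

set_option autoImplicit false
set_option linter.style.haveILetI false

universe u

open CategoryTheory CategoryTheory.Limits AlgebraicGeometry Opposite TopologicalSpace
open Groth.Agent.H11Tilde Groth.Agent.H11Ample Groth.Agent.H10Coh.Stab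
attribute [local instance] HasDerivedCategory.standard
attribute [local instance 10000] Groth.Agent.H10Coh.hasSheafifyAb Groth.Agent.H10Coh.hasWeakSheafifyAb Groth.Agent.H10Coh.hasExtAb Groth.Agent.H10Coh.enoughInjAb
attribute [local instance] Groth.Agent.H10Coh.enoughInjMod

noncomputable section

namespace Groth.Agent.H22Alg.PB

variable {X P : Scheme.{u}}

/-- Vanishing of a higher direct image. -/
def Van (π : P ⟶ X) (i : ℕ) (F : P.Modules) : Prop := IsZero ((Coh.RpushAb π i).obj (Coh.toAb F))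

theorem Van.of_iso {π : P ⟶ X} {i : ℕ} {F G : P.Modules} (e : F ≅ G) (h : Van π i F) : Van π i G :=
  RegSheaf.isZero_congr _ _ e h

theorem subsingleton_hn_of_iso {Z : TopCat.{u}} {F G : CohTop.Ab Z} (a : F ≅ G) {n : ℕ} {U : Opens Z}
    (h : Subsingleton (H10Coh.Hn F n U)) : Subsingleton (H10Coh.Hn G n U) := by
  refine Function.Surjective.subsingleton (f := fun x : H10Coh.Hn F n U => x.comp (Abelian.Ext.mk₀ a.hom) (add_zero n))
    fun y => ⟨y.comp (Abelian.Ext.mk₀ a.inv) (add_zero n), ?_⟩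
  simp only [Abelian.Ext.comp_assoc_of_second_deg_zero, Abelian.Ext.mk₀_comp_mk₀, Iso.inv_hom_id,
    Abelian.Ext.comp_mk₀_id]

/-- Twisting. -/
abbrev tw (O : ℤ → P.Modules) (d : ℤ) (F : P.Modules) : P.Modules :=
  ((DCoh.tensorBi (X := P)).obj (O d)).obj F

/-- A chart. -/
structure Chart (r : ℕ) (π : P ⟶ X) (O : ℤ → P.Modules) where
  U : X.Opens
  j : KRR.PY r (↑U : Scheme.{u}) ⟶ P
  openImm : IsOpenImmersion j
  w : j ≫ π = KRR.pr r (↑U : Scheme.{u}) ≫ U.ι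
  range : j.opensRange = π ⁻¹ᵁ U
  iso : Nonempty ((Scheme.Modules.pullback j).obj (O 1) ≅ Twist.twistOver r (↑U : Scheme.{u}) 1)

attribute [instance] Chart.openImm

/-- Locally a projective space with `O(1)`. -/
structure IsPn (r : ℕ) (π : P ⟶ X) (O : ℤ → P.Modules) : Prop where
  tw : IsTwistFamily O
  chart : ∀ x, ∃ c : Chart r π O, x ∈ c.U

theorem isPn_of_isProjBundle {π : P ⟶ X} {E : X.Modules} {O1 : P.Modules}
    {q : (Scheme.Modules.pullback π).obj E ⟶ O1} {r : ℕ} (hE : FlatMod.IsFinLocFreeOfRank (r + 1) E)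
    (hPB : KRR.IsProjBundle π E O1 q) :
    IsPn r π (pw (isInvertible_of_rank_one hPB.invertible)) where
  tw := isTwistFamily_pw _
  chart x := by
    obtain ⟨U, hxU, ⟨e⟩⟩ := hE x
    obtain ⟨j, hj, hw, hr, ⟨τ⟩⟩ := exists_chart hPB e
    obtain ⟨a⟩ := nonempty_pw_one (isInvertible_of_rank_one hPB.invertible)
    exact ⟨⟨U, j, hj, hw, hr, ⟨(Scheme.Modules.pullback j).mapIso a ≪≫ τ⟩⟩, hxU⟩

variable {r : ℕ} {π : P ⟶ X} {O : ℤ → P.Modules}

namespace Chart

variable (c : Chart r π O)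

/-- Restriction to a chart. -/
abbrev res (F : P.Modules) : (KRR.PY r (↑c.U : Scheme.{u})).Modules := (Scheme.Modules.pullback c.j).obj F

theorem image_preimage (V : X.Opens) (hV : V ≤ c.U) :
    c.j ''ᵁ (KRR.pr r (↑c.U : Scheme.{u}) ⁻¹ᵁ (c.U.ι ⁻¹ᵁ V)) = π ⁻¹ᵁ V := by
  rw [← Scheme.Hom.comp_preimage, ← c.w, Scheme.Hom.comp_preimage, Scheme.Hom.image_preimage_eq_opensRange_inf,
    c.range]
  exact inf_eq_right.2 fun x hx => hV hx

theorem isAffineOpen_preimage {V : X.Opens} (hV : IsAffineOpen V) (h : V ≤ c.U) : IsAffineOpen (c.U.ι ⁻¹ᵁ V) :=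
  hV.preimage_of_isOpenImmersion c.U.ι (by rw [Scheme.Opens.opensRange_ι]; exact h)

theorem nonempty_res_tw (hO : IsTwistFamily O) (d : ℤ) (F : P.Modules) :
    Nonempty (c.res (tw O d F) ≅ KRR.twF r (↑c.U : Scheme.{u}) d (c.res F)) := by
  obtain ⟨e⟩ := nonempty_family_iso (hO.pullback c.j) (isTwistFamily_twistOver r (↑c.U : Scheme.{u})) c.iso d
  exact ⟨(H16Derived.KFlat.Stalk.pullTensorLIso c.j F).app (O d) ≪≫
    ((DCoh.tensorBi (X := KRR.PY r (↑c.U : Scheme.{u}))).mapIso e).app (c.res F)⟩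

/-- The pull-back of a module of the base. -/
def resPullback (M : X.Modules) :
    c.res ((Scheme.Modules.pullback π).obj M) ≅
      (Scheme.Modules.pullback (KRR.pr r (↑c.U : Scheme.{u}))).obj ((Scheme.Modules.pullback c.U.ι).obj M) :=
  (Scheme.Modules.pullbackComp c.j π).app M ≪≫ (Scheme.Modules.pullbackCongr c.w).app M ≪≫
    ((Scheme.Modules.pullbackComp (KRR.pr r (↑c.U : Scheme.{u})) c.U.ι).app M).symm

theorem hnm_iff (G : P.Modules) (i : ℕ) {V : X.Opens} (hV : V ≤ c.U) :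
    Subsingleton (H10Coh.HnM G i (π ⁻¹ᵁ V)) ↔
      Subsingleton (H10Coh.HnM (c.res G) i (KRR.pr r (↑c.U : Scheme.{u}) ⁻¹ᵁ (c.U.ι ⁻¹ᵁ V))) := by
  rw [← c.image_preimage V hV]
  let a := (H10Coh.shF (KRR.PY r (↑c.U : Scheme.{u}))).mapIso ((Scheme.Modules.restrictFunctorIsoPullback c.j).app G)
  exact (H10Coh.restrEquivM c.j G i _).toEquiv.subsingleton_congr.trans
    ⟨subsingleton_hn_of_iso a, subsingleton_hn_of_iso a.symm⟩

theorem isQCoh_res {G : P.Modules} (hG : Coh.IsQCoh G) : Coh.IsQCoh (c.res G) :=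
  H29Fitt.isQCoh_pullback c.j G hG

end Chart

/-- Vanishing of higher direct images gives vanishing over preimages of affine opens. -/
theorem subsingleton_of_van {f : P ⟶ X} [QuasiCompact f] [QuasiSeparated f] {G : P.Modules} (hG : Coh.IsQCoh G)
    {m : ℕ} (h : Van f (m + 1) G) {W : X.Opens} (hW : IsAffineOpen W) :
    Subsingleton (H10Coh.HnM G (m + 1) (f ⁻¹ᵁ W)) := by
  haveI : G.IsQuasicoherent := hG
  have hz : IsZero ((Coh.Rpush f (m + 1)).obj G) := by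
    refine (IsZero.iff_id_eq_zero _).2 ((H10Coh.shF X).map_injective ?_)
    have key : Nonempty (Coh.toAb ((Coh.Rpush f (m + 1)).obj G) ≅ (Coh.RpushAb f (m + 1)).obj (Coh.toAb G)) :=
      ⟨(H10Coh.shF X).mapIso (H10Coh.nonempty_rpush_iso_hdir f G m).some ≪≫
        (H10Coh.nonempty_rpushAb_iso_hdir f G m).some⟩
    exact (IsZero.of_iso h key.some).eq_of_src _ _
  obtain ⟨e, -⟩ := LeadBC.exists_rpushEquiv f hW G (m + 1)
  have h0 : Subsingleton Γ((Coh.Rpush f (m + 1)).obj G, W) := subsingleton_of_forall_eq 0 fun x =>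
    ConcreteCategory.congr_hom (congrArg (fun φ => Scheme.Modules.Hom.app φ W) (hz.eq_of_src (𝟙 _) 0)) x
  have h1 := e.toEquiv.subsingleton_congr.2 h0
  refine H10Coh.subsingleton_HnM_image (f ⁻¹ᵁ W).ι G (m + 1) ⊤ _ (Scheme.Opens.ι_image_top _) ?_
  exact (H10Coh.HHEquiv (G.restrict (f ⁻¹ᵁ W).ι) (m + 1)).toEquiv.subsingleton_congr.1 h1

namespace IsPn

variable (hπ : IsPn r π O)

include hπ

theorem exists_affine_nhd (x : X) (W : X.Opens) (hx : x ∈ W) :
    ∃ (V : X.Opens) (c : Chart r π O), IsAffineOpen V ∧ x ∈ V ∧ V ≤ W ∧ V ≤ c.U := by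
  obtain ⟨c, hc⟩ := hπ.chart x
  obtain ⟨V, hV, hxV, hle⟩ := exists_isAffineOpen_mem_and_subset (x := x) (U := W ⊓ c.U) ⟨hx, hc⟩
  exact ⟨V, c, hV, hxV, fun y hy => (hle hy).1, fun y hy => (hle hy).2⟩

theorem local_prop (Q : MorphismProperty Scheme.{u}) [IsZariskiLocalAtTarget Q]
    (h : ∀ U : Scheme.{u}, Q (KRR.pr r U)) : Q π := by
  choose c hc using hπ.chart
  refine IsZariskiLocalAtTarget.of_iSup_eq_top (fun x => (c x).U)
    (eq_top_iff.2 fun x _ => Opens.mem_iSup.2 ⟨x, hc x⟩) fun x => ?_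
  let a : KRR.PY r (↑(c x).U : Scheme.{u}) ≅ (↑(π ⁻¹ᵁ (c x).U) : Scheme.{u}) :=
    (c x).j.isoOpensRange ≪≫ P.isoOfEq (c x).range
  have ha : a.hom ≫ (π ∣_ (c x).U) = KRR.pr r _ := by
    rw [← cancel_mono (c x).U.ι, Category.assoc, morphismRestrict_ι, ← Category.assoc]
    simp only [a, Iso.trans_hom, Category.assoc, Scheme.isoOfEq_hom_ι, Scheme.Hom.isoOpensRange_hom_ι]
    exact (c x).w
  have h' := h (↑(c x).U : Scheme.{u})
  rw [← ha, Q.cancel_left_of_respectsIso] at h'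
  exact h'

theorem isProper : IsProper π := hπ.local_prop _ fun U => CMKer.isProper_pr r U

theorem flat : Flat π := hπ.local_prop _ fun U => PnVan.flat_pr r U

theorem finLocFree_O (d : ℤ) : FlatMod.IsFinLocFree (O d) := PnVan.finLocFree_of_inv (hπ.tw.inv d)

theorem finLocFree_tw (d : ℤ) {F : P.Modules} (hF : FlatMod.IsFinLocFree F) : FlatMod.IsFinLocFree (PB.tw O d F) :=
  H16Derived.KFlat.Stalk.isFinLocFree_tensor (hπ.finLocFree_O d) hF

theorem isQCoh_tw (d : ℤ) {F : P.Modules} (hF : Coh.IsQCoh F) : Coh.IsQCoh (PB.tw O d F) := by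
  haveI : F.IsQuasicoherent := hF
  haveI := H8Props.FinLocFree.isQCoh_of_isFinLocFree _ (hπ.finLocFree_O d)
  exact H10Coh.TT.isQCoh_tensorMod (O d) F

theorem isQCoh_push {G : P.Modules} (hG : Coh.IsQCoh G) : Coh.IsQCoh ((Scheme.Modules.pushforward π).obj G) := by
  haveI := hπ.isProper
  haveI : G.IsQuasicoherent := hG
  exact H10Coh.isQuasicoherent_pushforward π G

/-- Vanishing is local on the charts. -/
theorem van_of_chart {m : ℕ} {G : P.Modules} (hG : Coh.IsQCoh G)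
    (h : ∀ c : Chart r π O, CMReg.Van (m + 1) (c.res G)) : Van π (m + 1) G := by
  refine H10Coh.isZero_rpush_of_vanishing π.base _ m {V : X.Opens | IsAffineOpen V ∧ ∃ c : Chart r π O, V ≤ c.U}
    ?_ fun V hV => ?_
  · refine Opens.isBasis_iff_nbhd.2 fun {W x} hx => ?_
    obtain ⟨V, c, hV, hxV, hVW, hVc⟩ := hπ.exists_affine_nhd x W hx
    exact ⟨V, ⟨hV, c, hVc⟩, hxV, hVW⟩
  · obtain ⟨hVa, c, hVc⟩ := hV
    haveI := CMKer.isProper_pr r (↑c.U : Scheme.{u})
    exact (c.hnm_iff G (m + 1) hVc).2 (subsingleton_of_van (f := KRR.pr r (↑c.U : Scheme.{u})) (c.isQCoh_res hG)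
      (h c) (c.isAffineOpen_preimage hVa hVc))

theorem chart_of_van {m : ℕ} {G : P.Modules} (hG : Coh.IsQCoh G) (h : Van π (m + 1) G) (c : Chart r π O) :
    CMReg.Van (m + 1) (c.res G) := by
  haveI := hπ.isProper
  refine H10Coh.isZero_rpush_of_vanishing (KRR.pr r (↑c.U : Scheme.{u})).base _ m
    {W : (↑c.U : Scheme.{u}).Opens | IsAffineOpen W} ((↑c.U : Scheme.{u}).isBasis_affineOpens) fun W hW => ?_
  have hVU : c.U.ι ''ᵁ W ≤ c.U := c.U.ι_image_le W
  have h1 := (c.hnm_iff G (m + 1) hVU).1 (subsingleton_of_van hG h (IsAffineOpen.image_of_isOpenImmersion hW c.U.ι))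
  rwa [c.U.ι.preimage_image_eq W] at h1

/-- `R^i π_* (π^* M (d)) = 0` for `i ≥ 1`, `d ≥ -r`. -/
theorem van_pullback {i : ℕ} (hi : 1 ≤ i) {d : ℤ} (hd : -(r : ℤ) ≤ d) {M : X.Modules} (hM : Coh.IsQCoh M) :
    Van π i (PB.tw O d ((Scheme.Modules.pullback π).obj M)) := by
  obtain ⟨m, rfl⟩ : ∃ m, i = m + 1 := ⟨i - 1, by omega⟩
  refine hπ.van_of_chart (hπ.isQCoh_tw d (H29Fitt.isQCoh_pullback π M hM)) fun c => ?_
  obtain ⟨e⟩ := c.nonempty_res_tw hπ.tw d ((Scheme.Modules.pullback π).obj M)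
  exact CMReg.van_iso (e ≪≫ ((DCoh.tensorBi (X := KRR.PY r (↑c.U : Scheme.{u}))).obj _).mapIso (c.resPullback M)).symm
    (PnVan.van_pullback hi hd _ (H29Fitt.isQCoh_pullback c.U.ι M hM))

theorem van_high {i : ℕ} (hi : r < i) {G : P.Modules} (hG : Coh.IsQCoh G) : Van π i G := by
  obtain ⟨m, rfl⟩ : ∃ m, i = m + 1 := ⟨i - 1, by omega⟩
  exact hπ.van_of_chart hG fun c => CMKer.van_high hi (c.isQCoh_res hG)

theorem bijective_pullSect {V : X.Opens} (hV : IsAffineOpen V) (c : Chart r π O) (hVc : V ≤ c.U) {M : X.Modules}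
    (hM : Coh.IsQCoh M) : Function.Bijective (OmegaSh.pullSect π M V) := by
  have h1 : PnUnit.BijOn (KRR.pr r (↑c.U : Scheme.{u})) ((Scheme.Modules.pullback c.U.ι).obj M) (c.U.ι ⁻¹ᵁ V) :=
    PnUnit.bijective_pullSect (c.isAffineOpen_preimage hV hVc) _ (H29Fitt.isQCoh_pullback c.U.ι M hM)
  have hι : PnUnit.BijOn c.U.ι M V :=
    H17.PullSect.bijective_pullSect _ _ (hVc.trans (Scheme.Opens.opensRange_ι _).ge)
  have hj : PnUnit.BijOn c.j ((Scheme.Modules.pullback π).obj M) (π ⁻¹ᵁ V) :=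
    H17.PullSect.bijective_pullSect _ _ (fun x hx => c.range.ge (show π x ∈ c.U from hVc hx))
  exact (PnUnit.bijOn_comp_iff_right hj).1 (PnUnit.bijOn_congr c.w.symm ((PnUnit.bijOn_comp_iff_left hι).2 h1))

/-- `M → π_* π^* M` is an isomorphism. -/
theorem isIso_unit {M : X.Modules} (hM : Coh.IsQCoh M) :
    IsIso ((Scheme.Modules.pullbackPushforwardAdjunction π).unit.app M) :=
  PnDeg0.isIso_of_bijective_basis _ (fun U => IsAffineOpen U ∧ ∃ c : Chart r π O, U ≤ c.U)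
    (fun V x hx => by
      obtain ⟨U, c, hU, hxU, hUV, hUc⟩ := hπ.exists_affine_nhd x V hx
      exact ⟨U, ⟨hU, c, hUc⟩, hxU, hUV⟩)
    fun U ⟨hU, c, hUc⟩ => hπ.bijective_pullSect hU c hUc hM

/-- `π_* (π^* M (d)) = 0` for `-r ≤ d < 0`. -/
theorem isZero_push_neg {d : ℤ} (hd : -(r : ℤ) ≤ d) (hd' : d < 0) {M : X.Modules} (hM : Coh.IsQCoh M) :
    IsZero ((Scheme.Modules.pushforward π).obj (PB.tw O d ((Scheme.Modules.pullback π).obj M))) := by
  rw [IsZero.iff_id_eq_zero]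
  refine Scheme.Modules.hom_ext _ _ fun V => ConcreteCategory.hom_ext _ _ fun s => ?_
  change s = (0 : Γ((Scheme.Modules.pushforward π).obj (PB.tw O d ((Scheme.Modules.pullback π).obj M)), V))
  refine eq_of_locally _ _ fun x hx => ?_
  obtain ⟨U, c, hU, hxU, hUV, hUc⟩ := hπ.exists_affine_nhd x V hx
  refine ⟨U, hUV, hxU, ?_⟩
  let G := PB.tw O d ((Scheme.Modules.pullback π).obj M)
  let W := KRR.pr r (↑c.U : Scheme.{u}) ⁻¹ᵁ (c.U.ι ⁻¹ᵁ U)
  obtain ⟨e⟩ := c.nonempty_res_tw hπ.tw d ((Scheme.Modules.pullback π).obj M)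
  have hz := PnUnit.isZero_push_pullback_neg (n := r) (T := (↑c.U : Scheme.{u})) hd hd'
    ((Scheme.Modules.pullback c.U.ι).obj M) (H29Fitt.isQCoh_pullback c.U.ι M hM)
  have h1 : Subsingleton Γ(KRR.twF r (↑c.U : Scheme.{u}) d ((Scheme.Modules.pullback (KRR.pr r (↑c.U : Scheme.{u}))).obj
      ((Scheme.Modules.pullback c.U.ι).obj M)), W) := subsingleton_of_forall_eq 0 fun t =>
    ConcreteCategory.congr_hom (congrArg (fun φ => Scheme.Modules.Hom.app φ (c.U.ι ⁻¹ᵁ U)) (hz.eq_of_src (𝟙 _) 0)) t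
  let a := (Scheme.Modules.restrictFunctorIsoPullback c.j).app G ≪≫ e ≪≫
    ((DCoh.tensorBi (X := KRR.PY r (↑c.U : Scheme.{u}))).obj _).mapIso (c.resPullback M)
  haveI := h1
  have h2 : Subsingleton Γ(G.restrict c.j, W) :=
    @Function.Injective.subsingleton _ _ _ (ConcreteCategory.bijective_of_isIso (a.hom.app W)).1 h1
  exact @Subsingleton.elim _ ((G.presheaf.mapIso (eqToIso (c.image_preimage U hUc).symm).op).addCommGroupIsoToAddEquiv.toEquiv.subsingleton_congr.1 h2) _ _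

end IsPn

end Groth.Agent.H22Alg.PB
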